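import Mathlib
import Cfsg.Agent.Lib.PGroups.Frattini

/-!
# 2-groups with a large centralizer of the third term of the upper central series
-/

set_option autoImplicit false
set_option linter.unusedSectionVars false
set_option linter.style.haveILetI false

namespace Cfsg.Agent.Lib.Inv59.RudT

universe u

variable {T : Type u} [Group T]

/-- The hypotheses. -/
structure Hyp (T : Type u) [Group T] (W : Subgroup T) : Prop where
  pg : IsPGroup 2 T
  big : 2 ^ 14 ≤ Nat.card T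
  four : Nat.card (Subgroup.upperCentralSeries T 4) = 16
  eq : W = Subgroup.centralizer ((Subgroup.upperCentralSeries T 3 : Subgroup T) : Set T)
  frat : Nat.card (frattini W) ≤ 8
  deep : ∀ U : Subgroup W, U.index ≤ 16 → frattini W ≤ U

local notation "Zc" => Subgroup.upperCentralSeries T

instance Z_normal (i : ℕ) : (Zc i).Normal := inferInstance

variable [Finite T]

theorem two_mul_card_le {A B : Subgroup T} (h : A ≤ B) (hne : ¬ B ≤ A) :
    2 * Nat.card A ≤ Nat.card B := by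
  rw [← Subgroup.card_mul_index (A.subgroupOf B), Nat.card_congr (Subgroup.subgroupOfEquivOfLe h).toEquiv,
    mul_comm]
  refine Nat.mul_le_mul_left _ ?_
  have h0 : (A.subgroupOf B).index ≠ 0 := Subgroup.index_ne_zero_of_finite
  have h1 : (A.subgroupOf B).index ≠ 1 := fun e => hne fun x hx => by
    have := Subgroup.index_eq_one.1 e
    have hm : (⟨x, hx⟩ : B) ∈ A.subgroupOf B := this ▸ Subgroup.mem_top _
    exact hm
  omega

theorem exists_step (hT : IsPGroup 2 T) (N : Subgroup T) [hN : N.Normal] {i : ℕ} (h : ¬ N ≤ Zc i) :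
    ∃ k ∈ N, k ∈ Zc (i + 1) ∧ k ∉ Zc i := by
  haveI := hT.isNilpotent
  obtain ⟨n, hn⟩ := Group.IsNilpotent.nilpotent T
  have key : ∀ j, ¬ (N ⊓ Zc j ≤ Zc i) → ∃ k ∈ N, k ∈ Zc (i + 1) ∧ k ∉ Zc i := by
    intro j
    induction j with
    | zero => intro hj; exact absurd (fun x hx => by
        have : x = 1 := by simpa using hx.2
        rw [this]; exact one_mem _) hj
    | succ j ih =>
      intro hj
      by_cases hj' : N ⊓ Zc j ≤ Zc i
      · obtain ⟨k, hk, hki⟩ := SetLike.not_le_iff_exists.1 hj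
        refine ⟨k, hk.1, Subgroup.mem_upperCentralSeries_succ_iff.2 fun y => hj' ⟨?_, ?_⟩, hki⟩
        · rw [commutatorElement_def, show k * y * k⁻¹ * y⁻¹ = k * (y * k⁻¹ * y⁻¹) by group]
          exact N.mul_mem hk.1 (hN.conj_mem _ (N.inv_mem hk.1) y)
        · exact Subgroup.mem_upperCentralSeries_succ_iff.1 hk.2 y
      · exact ih hj'
  exact key n fun hle => h fun x hx => hle ⟨hx, hn ▸ Subgroup.mem_top x⟩

theorem Z_le_succ (i : ℕ) : Zc i ≤ Zc (i + 1) := fun x hx =>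
  Subgroup.mem_upperCentralSeries_succ_iff.2 fun y => by
    rw [commutatorElement_def, show x * y * x⁻¹ * y⁻¹ = x * (y * x⁻¹ * y⁻¹) by group]
    exact (Zc i).mul_mem hx ((inferInstance : (Zc i).Normal).conj_mem _ ((Zc i).inv_mem hx) y)

theorem Z_mono {i j : ℕ} (h : i ≤ j) : Zc i ≤ Zc j := by
  induction h with
  | refl => exact le_rfl
  | step _ ih => exact ih.trans (Z_le_succ _)

/-- A maximal subgroup avoiding a given element, when squares lie in a subgroup. -/
theorem exists_avoid {A Y : Subgroup T} (hYA : Y ≤ A) (hsq : ∀ x ∈ A, x * x ∈ Y) {y : T}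
    (hy : y ∈ A) (hyY : y ∉ Y) :
    ∃ U : Subgroup T, U ≤ A ∧ Y ≤ U ∧ y ∉ U ∧ (∀ x ∈ A, x ∈ U ∨ x * y ∈ U) ∧
      (∀ x ∈ A, ∀ v ∈ U, x * v * x⁻¹ ∈ U) ∧ Nat.card A ≤ 2 * Nat.card U := by
  obtain ⟨U, ⟨hUA, hYU, hyU⟩, hmax⟩ :=
    (Set.toFinite {U : Subgroup T | U ≤ A ∧ Y ≤ U ∧ y ∉ U}).exists_maximal ⟨Y, hYA, le_rfl, hyY⟩
  have hnorm : ∀ x ∈ A, ∀ v ∈ U, x * v * x⁻¹ ∈ U := by
    intro x hx v hv
    have e : x * v * x⁻¹ = (x * x) * ((x⁻¹ * v) * (x⁻¹ * v)) * (v * v)⁻¹ * v := by group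
    rw [e]
    exact U.mul_mem (U.mul_mem (U.mul_mem (hYU (hsq x hx))
      (hYU (hsq _ (A.mul_mem (A.inv_mem hx) (hUA hv))))) (U.inv_mem (hYU (hsq v (hUA hv))))) hv
  have hstep : ∀ x ∈ A, x ∈ U ∨ x * y ∈ U := by
    intro x hx
    by_contra hcon
    push Not at hcon
    have hxn : Subgroup.zpowers x ≤ Subgroup.normalizer (U : Set T) := by
      rw [Subgroup.zpowers_le, Subgroup.mem_normalizer_iff]
      intro v
      refine ⟨hnorm x hx v, fun hv => ?_⟩
      have h := hnorm x⁻¹ (A.inv_mem hx) _ hv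
      simpa [mul_assoc] using h
    have hyV : y ∈ U ⊔ Subgroup.zpowers x := by
      by_contra h
      have hle : U ⊔ Subgroup.zpowers x ≤ U :=
        hmax ⟨sup_le hUA (Subgroup.zpowers_le.2 hx), hYU.trans le_sup_left, h⟩ le_sup_left
      exact hcon.1 (hle (Subgroup.mem_sup_right (Subgroup.mem_zpowers x)))
    rw [← SetLike.mem_coe, Subgroup.coe_mul_of_right_le_normalizer_left U _ hxn] at hyV
    obtain ⟨v, hv, b, ⟨k, rfl⟩, e⟩ := hyV
    rcases Int.even_or_odd' k with ⟨j, rfl | rfl⟩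
    · apply hyU
      rw [← e]
      refine U.mul_mem hv ?_
      show x ^ (2 * j) ∈ U
      rw [zpow_mul, zpow_two]
      exact U.zpow_mem (hYU (hsq x hx)) j
    · apply hcon.2
      rw [← e]
      show x * (v * x ^ (2 * j + 1)) ∈ U
      have h2 : x ^ (2 * j + 1) = x * (x * x) ^ j := by
        rw [add_comm, zpow_add, zpow_one, zpow_mul, zpow_two]
      have h3 : ∀ p : T, x * (v * (x * p)) = (x * v * x⁻¹) * ((x * x) * p) := fun p => by group
      rw [h2, h3]
      exact U.mul_mem (hnorm x hx v hv) (U.mul_mem (hYU (hsq x hx)) (U.zpow_mem (hYU (hsq x hx)) j))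
  refine ⟨U, hUA, hYU, hyU, hstep, hnorm, ?_⟩
  have hsub : (A : Set T) ⊆ (U : Set T) ∪ (fun v => v * y⁻¹) '' (U : Set T) := by
    intro x hx
    rcases hstep x hx with h | h
    · exact Or.inl h
    · exact Or.inr ⟨x * y, h, by group⟩
  have h := (Set.ncard_le_ncard hsub (Set.toFinite _)).trans (Set.ncard_union_le _ _)
  rw [Set.ncard_image_of_injective _ (mul_left_injective y⁻¹)] at h
  show Nat.card (A : Set T) ≤ 2 * Nat.card (U : Set T)
  rw [Nat.card_coe_set_eq, Nat.card_coe_set_eq]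
  omega

variable {W : Subgroup T}

namespace Hyp

variable (H : Hyp T W)
include H

theorem card_lower : ∀ i, i ≤ 4 → 2 ^ i ≤ Nat.card (Zc i) := by
  intro i
  induction i with
  | zero => intro _; exact Nat.card_pos
  | succ i ih =>
    intro hi
    have h1 := ih (by omega)
    have hne : ¬ (⊤ : Subgroup T) ≤ Zc i := fun h => by
      have h2 := Subgroup.card_le_of_le (Z_mono (T := T) (by omega : i ≤ 4))
      rw [top_le_iff.1 h, Subgroup.card_top, H.four] at h2
      have := H.big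
      omega
    obtain ⟨k, -, hk, hk'⟩ := exists_step H.pg ⊤ hne
    have h3 := two_mul_card_le (Z_le_succ (T := T) i) fun h => hk' (h hk)
    rw [pow_succ]
    omega

theorem card_Z {i : ℕ} (hi : i ≤ 4) : Nat.card (Zc i) = 2 ^ i := by
  refine le_antisymm ?_ (H.card_lower i hi)
  have key : ∀ j, i + j ≤ 4 → Nat.card (Zc i) * 2 ^ j ≤ Nat.card (Zc (i + j)) := by
    intro j
    induction j with
    | zero => intro _; simp
    | succ j ih =>
      intro hj
      have h1 := ih (by omega)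
      have hne : ¬ (⊤ : Subgroup T) ≤ Zc (i + j) := fun h => by
        have h2 := Subgroup.card_le_of_le (Z_mono (T := T) (by omega : i + j ≤ 4))
        rw [top_le_iff.1 h, Subgroup.card_top, H.four] at h2
        have := H.big
        omega
      obtain ⟨k, -, hk, hk'⟩ := exists_step H.pg ⊤ hne
      have h3 := two_mul_card_le (Z_le_succ (T := T) (i + j)) fun h => hk' (h hk)
      rw [pow_succ, ← mul_assoc, ← add_assoc]
      omega
  have h := key (4 - i) (by omega)
  rw [Nat.add_sub_cancel' hi, H.four, show (16 : ℕ) = 2 ^ i * 2 ^ (4 - i) by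
    rw [← pow_add, Nat.add_sub_cancel' hi]; norm_num] at h
  exact Nat.le_of_mul_le_mul_right h (by positivity)

/-- A small normal subgroup lies in the corresponding term. -/
theorem small (N : Subgroup T) [N.Normal] {i : ℕ} (hi : i ≤ 3) (hN : Nat.card N ≤ 2 ^ i) :
    N ≤ Zc i := by
  by_contra h
  have key : ∀ j, j ≤ i + 1 → 2 ^ j ≤ Nat.card (N ⊓ Zc j : Subgroup T) := by
    intro j
    induction j with
    | zero => intro _; exact Nat.card_pos
    | succ j ih =>
      intro hj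
      have h1 := ih (by omega)
      obtain ⟨k, hk, hk1, hk2⟩ := exists_step H.pg N (i := j)
        fun hle => h (hle.trans (Z_mono (by omega)))
      have h2 := two_mul_card_le (A := N ⊓ Zc j) (B := N ⊓ Zc (j + 1))
        (inf_le_inf_left N (Z_le_succ j)) fun hle => hk2 (hle ⟨hk, hk1⟩).2
      rw [pow_succ]
      omega
  have h1 := key (i + 1) le_rfl
  have h2 := Subgroup.card_le_of_le (inf_le_left : N ⊓ Zc (i + 1) ≤ N)
  rw [pow_succ] at h1
  have : 0 < 2 ^ i := by positivity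
  omega

/-- Two elements of `Z_{i+1}` outside `Z_i` differ by an element of `Z_i`. -/
theorem cos {i : ℕ} (hi : i ≤ 3) {a b : T} (ha : a ∈ Zc (i + 1)) (ha' : a ∉ Zc i)
    (hb : b ∈ Zc (i + 1)) (hb' : b ∉ Zc i) : a⁻¹ * b ∈ Zc i := by
  have hidx : ((Zc i).subgroupOf (Zc (i + 1))).index = 2 := by
    have h := Subgroup.card_mul_index ((Zc i).subgroupOf (Zc (i + 1)))
    rw [Nat.card_congr (Subgroup.subgroupOfEquivOfLe (Z_le_succ i)).toEquiv, H.card_Z (by omega),
      H.card_Z (by omega), pow_succ] at h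
    exact Nat.eq_of_mul_eq_mul_left (by positivity) h
  have h := (Subgroup.mul_mem_iff_of_index_two hidx (a := (⟨a, ha⟩ : Zc (i + 1))⁻¹)
    (b := ⟨b, hb⟩)).2
  simp only [Subgroup.mem_subgroupOf, Subgroup.coe_mul, inv_mem_iff] at h
  exact h ⟨fun x => absurd x ha', fun x => absurd x hb'⟩

theorem cos_right {i : ℕ} (hi : i ≤ 3) {a b : T} (ha : a ∈ Zc (i + 1)) (ha' : a ∉ Zc i)
    (hb : b ∈ Zc (i + 1)) (hb' : b ∉ Zc i) : a * b ∈ Zc i := by
  have := H.cos hi ((Zc (i + 1)).inv_mem ha) (fun h => ha' (by simpa using (Zc i).inv_mem h)) hb hb'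
  simpa using this

theorem W_normal : W.Normal := by
  rw [H.eq]
  exact inferInstance

theorem exists_e {i : ℕ} (hi : i ≤ 3) : ∃ e, e ∈ Zc (i + 1) ∧ e ∉ Zc i := by
  obtain ⟨k, -, hk, hk'⟩ := exists_step H.pg (Zc (i + 1)) (i := i) fun h => by
    have h1 := Subgroup.card_le_of_le h
    rw [H.card_Z (by omega), H.card_Z (by omega), pow_succ] at h1
    have : 0 < 2 ^ i := by positivity
    omega
  exact ⟨k, hk, hk'⟩

theorem closure_Z3 {e₁ e₂ e₃ : T} (h1 : e₁ ∈ Zc 1 ∧ e₁ ∉ Zc 0) (h2 : e₂ ∈ Zc 2 ∧ e₂ ∉ Zc 1)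
    (h3 : e₃ ∈ Zc 3 ∧ e₃ ∉ Zc 2) : Zc 3 ≤ Subgroup.closure {e₁, e₂, e₃} := by
  set K := Subgroup.closure ({e₁, e₂, e₃} : Set T) with hK
  have a1 : Zc 1 ≤ K := fun x hx => by
    by_cases h : x ∈ Zc 0
    · have : x = 1 := by simpa using h
      rw [this]; exact K.one_mem
    · have h' := H.cos (by omega) h1.1 h1.2 hx h
      have : e₁⁻¹ * x = 1 := by simpa using h'
      rw [← (inv_mul_eq_one.1 this)]
      exact Subgroup.subset_closure (by simp)
  have a2 : Zc 2 ≤ K := fun x hx => by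
    by_cases h : x ∈ Zc 1
    · exact a1 h
    · have h' := a1 (H.cos (by omega) h2.1 h2.2 hx h)
      have := K.mul_mem (Subgroup.subset_closure (show e₂ ∈ ({e₁, e₂, e₃} : Set T) by simp)) h'
      rwa [mul_inv_cancel_left] at this
  intro x hx
  by_cases h : x ∈ Zc 2
  · exact a2 h
  · have h' := a2 (H.cos (by omega) h3.1 h3.2 hx h)
    have := K.mul_mem (Subgroup.subset_closure (show e₃ ∈ ({e₁, e₂, e₃} : Set T) by simp)) h'
    rwa [mul_inv_cancel_left] at this

theorem mem_of_fix {e₁ e₂ e₃ : T} (h1 : e₁ ∈ Zc 1 ∧ e₁ ∉ Zc 0) (h2 : e₂ ∈ Zc 2 ∧ e₂ ∉ Zc 1)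
    (h3 : e₃ ∈ Zc 3 ∧ e₃ ∉ Zc 2) {t : T} (f2 : t * e₂ = e₂ * t) (f3 : t * e₃ = e₃ * t) :
    t ∈ W := by
  rw [H.eq, Subgroup.mem_centralizer_iff]
  intro x hx
  have hx' : x ∈ Subgroup.closure ({e₁, e₂, e₃} : Set T) := H.closure_Z3 h1 h2 h3 hx
  have hle : Subgroup.closure ({e₁, e₂, e₃} : Set T) ≤ Subgroup.centralizer ({t} : Set T) := by
    rw [Subgroup.closure_le]
    rintro y (rfl | rfl | rfl)
    · rw [SetLike.mem_coe, Subgroup.mem_centralizer_singleton_iff]
      have := h1.1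
      rw [Subgroup.upperCentralSeries_one] at this
      exact (Subgroup.mem_center_iff.1 this t).symm
    · rw [SetLike.mem_coe, Subgroup.mem_centralizer_singleton_iff]
      exact f2.symm
    · rw [SetLike.mem_coe, Subgroup.mem_centralizer_singleton_iff]
      exact f3.symm
  exact Subgroup.mem_centralizer_singleton_iff.1 (hle hx')

theorem index_le : W.index ≤ 8 := by
  classical
  obtain ⟨e₁, h1⟩ := H.exists_e (i := 0) (by omega)
  obtain ⟨e₂, h2⟩ := H.exists_e (i := 1) (by omega)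
  obtain ⟨e₃, h3⟩ := H.exists_e (i := 2) (by omega)
  have hin : ∀ (i : ℕ) (e : T), e ∈ Zc (i + 1) → ∀ t : T, e⁻¹ * (t * e * t⁻¹) ∈ Zc i := by
    intro i e he t
    have h := Subgroup.mem_upperCentralSeries_succ_iff.1 ((Zc (i + 1)).inv_mem he) t
    rw [commutatorElement_def, inv_inv] at h
    convert h using 1
    group
  let f : T ⧸ W → (Zc 1) × (Zc 2) := fun q =>
    (⟨_, hin 1 e₂ h2.1 q.out⟩, ⟨_, hin 2 e₃ h3.1 q.out⟩)
  have hf : Function.Injective f := by
    intro p q h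
    rw [← QuotientGroup.out_eq' p, ← QuotientGroup.out_eq' q]
    refine QuotientGroup.eq.2 (H.mem_of_fix h1 h2 h3 ?_ ?_)
    · have e : p.out * e₂ * p.out⁻¹ = q.out * e₂ * q.out⁻¹ :=
        mul_left_cancel (congrArg (fun z => ((z.1 : Zc 1) : T)) h)
      calc p.out⁻¹ * q.out * e₂ = p.out⁻¹ * (q.out * e₂ * q.out⁻¹) * q.out := by group
        _ = p.out⁻¹ * (p.out * e₂ * p.out⁻¹) * q.out := by rw [e]
        _ = e₂ * (p.out⁻¹ * q.out) := by group
    · have e : p.out * e₃ * p.out⁻¹ = q.out * e₃ * q.out⁻¹ :=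
        mul_left_cancel (congrArg (fun z => ((z.2 : Zc 2) : T)) h)
      calc p.out⁻¹ * q.out * e₃ = p.out⁻¹ * (q.out * e₃ * q.out⁻¹) * q.out := by group
        _ = p.out⁻¹ * (p.out * e₃ * p.out⁻¹) * q.out := by rw [e]
        _ = e₃ * (p.out⁻¹ * q.out) := by group
  have := Nat.card_le_card_of_injective f hf
  rw [Nat.card_prod, H.card_Z (by omega), H.card_Z (by omega)] at this
  exact this

theorem phi_normal : ((frattini W).map W.subtype).Normal := by
  haveI := H.W_normal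
  exact inferInstance

theorem phi_le : (frattini W).map W.subtype ≤ Zc 3 := by
  haveI := H.phi_normal
  refine H.small _ le_rfl ?_
  rw [Subgroup.card_map_of_injective W.subtype_injective]
  exact H.frat

theorem sq_mem_phi {w : T} (hw : w ∈ W) : w * w ∈ (frattini W).map W.subtype := by
  haveI := Fact.mk Nat.prime_two
  exact ⟨(⟨w, hw⟩ : W) ^ 2, PGroups.pow_mem_frattini (H.pg.to_subgroup W) _, by simp [pow_two]⟩

theorem phi_le_of_card {U : Subgroup T} (hUW : U ≤ W) (hc : Nat.card W ≤ 16 * Nat.card U) :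
    (frattini W).map W.subtype ≤ U := by
  have h1 := H.deep (U.subgroupOf W) (by
    have h := Subgroup.card_mul_index (U.subgroupOf W)
    rw [Nat.card_congr (Subgroup.subgroupOfEquivOfLe hUW).toEquiv] at h
    by_contra hlt
    have : Nat.card U * 17 ≤ Nat.card W := h ▸ Nat.mul_le_mul_left _ (by omega)
    have := Nat.card_pos (α := U)
    omega)
  rintro _ ⟨x, hx, rfl⟩
  exact h1 hx

/-- No subgroup of index at most 8 in `W` has all squares in a subgroup missing part of `Φ(W)`. -/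
theorem no_sub {A Y : Subgroup T} (hAW : A ≤ W) (hYA : Y ≤ A) (hsq : ∀ x ∈ A, x * x ∈ Y) {y : T}
    (hyA : y ∈ A) (hyY : y ∉ Y) (hy : y ∈ (frattini W).map W.subtype)
    (hc : Nat.card W ≤ 8 * Nat.card A) : False := by
  obtain ⟨U, hUA, -, hyU, -, -, hcard⟩ := exists_avoid hYA hsq hyA hyY
  exact hyU (H.phi_le_of_card (hUA.trans hAW) (by omega) hy)

/-- An additive function on `W` that kills `Q` and not `z`. -/
theorem exists_mu {Q : Subgroup T} (hQW : Q ≤ W) (hsq : ∀ w ∈ W, w * w ∈ Q) {z : T} (hz : z ∈ W)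
    (hzQ : z ∉ Q) :
    ∃ μ : T → ZMod 2, (∀ x ∈ W, ∀ y ∈ W, μ (x * y) = μ x + μ y) ∧ (∀ x ∈ Q, μ x = 0) ∧ μ z = 1 := by
  classical
  obtain ⟨M, hMW, hQM, hzM, hstep, hnorm, -⟩ := exists_avoid hQW hsq hz hzQ
  refine ⟨fun x => if x ∈ M then 0 else 1, fun x hx y hy => ?_, fun x hx => if_pos (hQM hx),
    if_neg hzM⟩
  by_cases h1 : x ∈ M
  · by_cases h2 : y ∈ M
    · simp [h1, h2, M.mul_mem h1 h2]
    · simp [h1, h2, M.mul_mem_cancel_left h1]
  · by_cases h2 : y ∈ M
    · simp [h1, h2, M.mul_mem_cancel_right h2]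
    · have hxy : x * y ∈ M := by
        have a := (hstep x hx).resolve_left h1
        have b := (hstep y hy).resolve_left h2
        have hzz : z * z ∈ M := hQM (hsq z hz)
        -- `x * y = (x * z) * (z⁻¹ * y)`
        have c : z⁻¹ * y ∈ M := by
          have hm := M.mul_mem (hnorm z⁻¹ (W.inv_mem hz) _ b) (M.inv_mem hzz)
          have e : z⁻¹ * (y * z) * z⁻¹⁻¹ * (z * z)⁻¹ = z⁻¹ * y := by group
          rwa [e] at hm
        have := M.mul_mem a c
        rwa [mul_assoc, mul_inv_cancel_left] at this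
      simp [h1, h2, hxy]
      decide

theorem mu_conj {Q : Subgroup T} {μ : T → ZMod 2}
    (hadd : ∀ x ∈ W, ∀ y ∈ W, μ (x * y) = μ x + μ y) (hQ : ∀ x ∈ Q, μ x = 0) (hQW : Q ≤ W)
    {w x : T} (hw : w ∈ W) (hx : x ∈ W) : μ (w * x * w⁻¹) = μ x := by
  have h0 : μ 1 = 0 := hQ 1 Q.one_mem
  have h : μ w⁻¹ = μ w := by
    have := hadd w hw _ (W.inv_mem hw)
    rw [mul_inv_cancel, h0] at this
    exact (CharTwo.add_eq_zero.1 this.symm).symm
  rw [hadd _ (W.mul_mem hw hx) _ (W.inv_mem hw), hadd w hw x hx, h]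
  rw [add_comm (μ w) (μ x), add_assoc, CharTwo.add_self_eq_zero, add_zero]

/-- The kernel of all conjugates of `μ` is `Q`. -/
theorem ker_mu {Q : Subgroup T} [Q.Normal] (hQW : Q ≤ W) {μ : T → ZMod 2}
    (hadd : ∀ x ∈ W, ∀ y ∈ W, μ (x * y) = μ x + μ y) (hQ : ∀ x ∈ Q, μ x = 0) {z : T} (hz1 : μ z = 1)
    {i : ℕ} (hQi : Q = Zc i) (hi : i ≤ 3) (hz : z ∈ W ∧ z ∈ Zc (i + 1))
    {w : T} (hw : w ∈ W) (h : ∀ t : T, μ (t * w * t⁻¹) = 0) : w ∈ Q := by
  haveI := H.W_normal
  have h0 : μ 1 = 0 := hQ 1 Q.one_mem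
  let K : Subgroup T :=
    { carrier := {x | x ∈ W ∧ ∀ t : T, μ (t * x * t⁻¹) = 0}
      one_mem' := ⟨W.one_mem, fun t => by simpa using h0⟩
      mul_mem' := fun {a b} ha hb => ⟨W.mul_mem ha.1 hb.1, fun t => by
        rw [show t * (a * b) * t⁻¹ = (t * a * t⁻¹) * (t * b * t⁻¹) by group,
          hadd _ (H.W_normal.conj_mem a ha.1 t) _ (H.W_normal.conj_mem b hb.1 t), ha.2, hb.2,
          add_zero]⟩
      inv_mem' := fun {a} ha => ⟨W.inv_mem ha.1, fun t => by
        have h1 := hadd _ (H.W_normal.conj_mem a ha.1 t) _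
          (H.W_normal.conj_mem a⁻¹ (W.inv_mem ha.1) t)
        rw [show t * a * t⁻¹ * (t * a⁻¹ * t⁻¹) = 1 by group, h0, ha.2, zero_add] at h1
        exact h1.symm⟩ }
  haveI : K.Normal := ⟨fun x hx g => ⟨H.W_normal.conj_mem x hx.1 g, fun t => by
    rw [show t * (g * x * g⁻¹) * t⁻¹ = (t * g) * x * (t * g)⁻¹ by group]
    exact hx.2 _⟩⟩
  by_contra hwQ
  have hK : ¬ K ≤ Zc i := fun hle => hwQ (hQi ▸ hle ⟨hw, h⟩)
  obtain ⟨k, hk, hk1, hk2⟩ := exists_step H.pg K hK
  have hz2 : z ∉ Zc i := fun hm => by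
    rw [hQ z (hQi ▸ hm)] at hz1
    exact zero_ne_one hz1
  have hq : k⁻¹ * z ∈ Q := hQi ▸ H.cos hi hk1 hk2 hz.2 hz2
  have h1 := hadd k hk.1 _ (hQW hq)
  rw [mul_inv_cancel_left, hz1, hQ _ hq, add_zero] at h1
  have h2 := hk.2 1
  rw [one_mul, inv_one, mul_one] at h2
  rw [h2] at h1
  exact one_ne_zero h1

theorem card_W_le {i : ℕ} (hi : i ≤ 3) (hQW : Zc i ≤ W) (hsq : ∀ w ∈ W, w * w ∈ Zc i) :
    Nat.card W ≤ 2 ^ i * 2 ^ W.index := by
  haveI := H.W_normal
  by_cases hWi : W ≤ Zc i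
  · have := Subgroup.card_le_of_le hWi
    rw [H.card_Z (by omega)] at this
    exact this.trans (Nat.le_mul_of_pos_right _ (by positivity))
  obtain ⟨z, hzW, hz, hz'⟩ := exists_step H.pg W hWi
  obtain ⟨μ, hadd, hQ, hz1⟩ := H.exists_mu hQW hsq hzW hz'
  let φ : W →* Multiplicative (T ⧸ W → ZMod 2) :=
    MonoidHom.mk' (fun w => Multiplicative.ofAdd fun q => μ (q.out * w * q.out⁻¹)) fun a b => by
      apply Multiplicative.toAdd.injective
      funext q
      simp only [toAdd_mul, toAdd_ofAdd, Pi.add_apply, Subgroup.coe_mul]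
      rw [← hadd _ (H.W_normal.conj_mem _ a.2 _) _ (H.W_normal.conj_mem _ b.2 _)]
      congr 1
      group
  have hker : φ.ker ≤ (Zc i).subgroupOf W := by
    intro w hw
    refine H.ker_mu hQW hadd hQ hz1 rfl hi ⟨hzW, hz⟩ w.2 fun t => ?_
    obtain ⟨n, hn⟩ := QuotientGroup.mk_out_eq_mul W t
    have h1 : μ ((t * n) * (w : T) * (t * n)⁻¹) = 0 := by
      rw [← hn]
      exact congrFun (congrArg Multiplicative.toAdd hw) (t : T ⧸ W)
    rw [show (t * n) * (w : T) * (t * n)⁻¹ = (t * n * t⁻¹) * (t * w * t⁻¹) * (t * n * t⁻¹)⁻¹ by group,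
      H.mu_conj hadd hQ hQW (H.W_normal.conj_mem _ n.2 t) (H.W_normal.conj_mem _ w.2 t)] at h1
    exact h1
  have h1 := Subgroup.card_le_of_le hker
  rw [Nat.card_congr (Subgroup.subgroupOfEquivOfLe hQW).toEquiv, H.card_Z (by omega)] at h1
  have h2 := Subgroup.card_mul_index φ.ker
  rw [Subgroup.index_ker] at h2
  have h3 : Nat.card φ.range ≤ 2 ^ W.index := by
    refine (Nat.card_le_card_of_injective _ Subtype.val_injective).trans (le_of_eq ?_)
    haveI := Fintype.ofFinite (T ⧸ W)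
    rw [Nat.card_congr Multiplicative.toAdd, Nat.card_fun, Nat.card_zmod]
    rfl
  rw [← h2]
  exact Nat.mul_le_mul h1 h3

theorem card_T_eq : Nat.card T = Nat.card W * W.index := (Subgroup.card_mul_index W).symm

theorem card_W_lower : 2 ^ 11 ≤ Nat.card W := by
  have h1 := H.card_T_eq
  have h2 := H.index_le
  have h3 := H.big
  have h4 := Nat.mul_le_mul_left (Nat.card W) h2
  omega

theorem not_le_Z {i : ℕ} (hi : i ≤ 4) : ¬ W ≤ Zc i := fun h => by
  have h1 := Subgroup.card_le_of_le h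
  have h2 := H.card_W_lower
  have h3 : 2 ^ i ≤ 2 ^ 4 := Nat.pow_le_pow_right (by norm_num) hi
  rw [H.card_Z hi] at h1
  omega

theorem Z2_le : Zc 2 ≤ W := by
  haveI := H.W_normal
  have h1W : Zc 1 ≤ W := fun x hx => by
    rw [H.eq, Subgroup.mem_centralizer_iff]
    intro y _
    rw [Subgroup.upperCentralSeries_one] at hx
    exact Subgroup.mem_center_iff.1 hx y
  obtain ⟨k, hkW, hk, hk'⟩ := exists_step H.pg W (i := 1) (H.not_le_Z (by omega))
  intro x hx
  by_cases h : x ∈ Zc 1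
  · exact h1W h
  · have := W.mul_mem hkW (h1W (H.cos (by omega) hk hk' hx h))
    rwa [mul_inv_cancel_left] at this

theorem phi_eq : (frattini W).map W.subtype = Zc 3 := by
  haveI := H.phi_normal
  by_contra hne
  have hP2 : (frattini W).map W.subtype ≤ Zc 2 := by
    refine H.small _ (by omega) ?_
    have := two_mul_card_le H.phi_le fun h => hne (le_antisymm H.phi_le h)
    rw [H.card_Z (by omega)] at this
    omega
  have h := H.card_W_le (i := 2) (by omega) H.Z2_le fun w hw => hP2 (H.sq_mem_phi hw)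
  have h2 : (2 : ℕ) ^ W.index ≤ 2 ^ 8 := Nat.pow_le_pow_right (by norm_num) H.index_le
  have h3 := H.card_W_lower
  omega

theorem Z3_le : Zc 3 ≤ W := H.phi_eq ▸ Subgroup.map_subtype_le _

theorem sq_mem {w : T} (hw : w ∈ W) : w * w ∈ Zc 3 := H.phi_le (H.sq_mem_phi hw)

theorem card_eq : Nat.card W = 2 ^ 11 ∧ W.index = 8 ∧ Nat.card T = 2 ^ 14 := by
  have h := H.card_W_le (i := 3) (by omega) H.Z3_le fun w hw => H.sq_mem hw
  have h1 := H.card_W_lower
  have h2 := H.index_le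
  have h3 : W.index = 8 := by
    by_contra h4
    have : (2 : ℕ) ^ W.index ≤ 2 ^ 7 := Nat.pow_le_pow_right (by norm_num) (by omega)
    omega
  have h4 := H.card_T_eq
  rw [h3] at h h4
  refine ⟨by omega, h3, by omega⟩

end Hyp

end Cfsg.Agent.Lib.Inv59.RudT
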