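import Mathlib
import Cfsg.Agent.Lib.Linear.Simple

/-!
# The general linear group of degree three over the field with two elements
-/

set_option autoImplicit false
set_option linter.unusedSectionVars false
set_option linter.style.haveILetI false

namespace Cfsg.Agent.Lib.Inv59.RudT

universe u

/-- `GL(3,2)`. -/
abbrev G32 : Type := GL (Fin 3) (ZMod 2)

theorem card_G32 : Nat.card G32 = 168 := by
  haveI : Fact (Nat.Prime 2) := ⟨Nat.prime_two⟩
  rw [Matrix.card_GL_field, ZMod.card]
  decide

theorem zmod2_ne : ∀ a : ZMod 2, a ≠ 0 → a = 1 := by decide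

theorem zmod2_cube : ∀ a : ZMod 2, a ^ 3 = 1 → a = 1 := by decide

theorem simple_G32 : IsSimpleGroup G32 := by
  haveI : Fact (Nat.Prime 2) := ⟨Nat.prime_two⟩
  haveI := Linear.isSimpleGroup_PSL_of_three (ι := Fin 3) (F := ZMod 2) (by simp)
  have hsurj : Function.Surjective (Matrix.SpecialLinearGroup.toGL :
      Matrix.SpecialLinearGroup (Fin 3) (ZMod 2) → G32) := by
    intro g
    exact ⟨⟨g, zmod2_ne _ g.det.ne_zero⟩, Units.ext rfl⟩
  have hc : Subgroup.center (Matrix.SpecialLinearGroup (Fin 3) (ZMod 2)) = ⊥ := by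
    rw [eq_bot_iff]
    intro x hx
    obtain ⟨r, hr, hr'⟩ := Matrix.SpecialLinearGroup.mem_center_iff.1 hx
    rw [Fintype.card_fin] at hr
    rw [zmod2_cube r hr] at hr'
    exact Subgroup.mem_bot.2 (Subtype.ext (hr'.symm.trans (by simp)))
  let e : G32 ≃* Matrix.ProjectiveSpecialLinearGroup (Fin 3) (ZMod 2) :=
    (MulEquiv.ofBijective Matrix.SpecialLinearGroup.toGL
      ⟨Matrix.SpecialLinearGroup.toGL_injective, hsurj⟩).symm.trans
      ((QuotientGroup.quotientBot).symm.trans (QuotientGroup.quotientMulEquivOfEq hc.symm))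
  haveI : Nontrivial G32 := e.toEquiv.nontrivial
  exact IsSimpleGroup.isSimpleGroup_of_surjective e.symm.toMonoidHom e.symm.surjective

/-- A fixed transvection. -/
def t32 : Matrix (Fin 3) (Fin 3) (ZMod 2) := !![1, 1, 0; 0, 1, 0; 0, 0, 1]

theorem exists_to_transvection (a : G32) (ha : a * a = 1) (ha1 : a ≠ 1) :
    ∃ p : G32, (a : Matrix (Fin 3) (Fin 3) (ZMod 2)) * p = p * t32 := by
  classical
  set A : Matrix (Fin 3) (Fin 3) (ZMod 2) := ↑a with hA
  have hAA : A * A = 1 := by rw [hA, ← Units.val_mul, ha]; rfl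
  have htwo : ∀ v : Fin 3 → ZMod 2, v + v = 0 := fun v => funext fun _ => CharTwo.add_self_eq_zero _
  let f : (Fin 3 → ZMod 2) →+ (Fin 3 → ZMod 2) :=
    { toFun := fun v => A.mulVec v + v
      map_zero' := by simp
      map_add' := fun v w => by rw [Matrix.mulVec_add]; abel }
  have hff : ∀ v, f (f v) = 0 := fun v => by
    show A.mulVec (A.mulVec v + v) + (A.mulVec v + v) = 0
    rw [Matrix.mulVec_add, Matrix.mulVec_mulVec, hAA, Matrix.one_mulVec, add_comm v, htwo]
  obtain ⟨v, hv⟩ : ∃ v, f v ≠ 0 := by
    by_contra hcon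
    push Not at hcon
    refine ha1 (Units.ext ?_)
    refine Matrix.ext_of_mulVec_single fun i => ?_
    rw [Units.val_one, Matrix.one_mulVec]
    have h := eq_neg_of_add_eq_zero_left (hcon (Pi.single i 1))
    rw [neg_eq_of_add_eq_zero_left (htwo _)] at h
    exact h
  obtain ⟨u, hu, hu0, huw⟩ : ∃ u, f u = 0 ∧ u ≠ 0 ∧ u ≠ f v := by
    by_contra hcon
    push Not at hcon
    have hk : Nat.card f.ker ≤ 2 := by
      have hsub : (f.ker : Set (Fin 3 → ZMod 2)) ⊆ {0, f v} := by
        intro x hx
        by_cases h0 : x = 0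
        · exact Or.inl h0
        · exact Or.inr (hcon x hx h0)
      have h := (Set.ncard_le_ncard hsub (Set.toFinite _)).trans (Set.ncard_insert_le _ _)
      rw [Set.ncard_singleton, ← Nat.card_coe_set_eq] at h
      exact h
    have hr : Nat.card f.range ≤ Nat.card f.ker :=
      AddSubgroup.card_le_of_le (by rintro _ ⟨x, rfl⟩; exact hff x)
    have h8 : Nat.card f.ker * Nat.card f.range = 8 := by
      rw [← AddSubgroup.index_ker f, AddSubgroup.card_mul_index, Nat.card_fun, Nat.card_zmod,
        Nat.card_fin]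
      norm_num
    have := Nat.mul_le_mul hk (hr.trans hk)
    omega
  let P : Matrix (Fin 3) (Fin 3) (ZMod 2) := Matrix.of fun i j => ![f v, v, u] j i
  have hP : ∀ x : Fin 3 → ZMod 2, P.mulVec x = x 0 • f v + x 1 • v + x 2 • u := by
    intro x
    funext i
    simp only [Matrix.mulVec, dotProduct, P, Matrix.of_apply, Fin.sum_univ_three, Pi.add_apply,
      Pi.smul_apply, smul_eq_mul, Matrix.cons_val_zero, Matrix.cons_val_one, Matrix.cons_val_two,
      Matrix.tail_cons, Matrix.head_cons]
    ring
  have hdich := (by decide : ∀ a : ZMod 2, a = 0 ∨ a = 1)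
  have hfs : ∀ (c : ZMod 2) x, f (c • x) = c • f x := fun c x => by
    rcases hdich c with rfl | rfl <;> simp
  have hunit : IsUnit P := by
    rw [← Matrix.mulVec_injective_iff_isUnit]
    intro x y hxy
    rw [← sub_eq_zero]
    have h0 : P.mulVec (x - y) = 0 := by rw [Matrix.mulVec_sub, hxy, sub_self]
    rw [hP] at h0
    have h1 : (x - y) 1 = 0 := by
      have h := congrArg f h0
      rw [map_add, map_add, map_zero, hfs, hfs, hfs, hff, hu, smul_zero, smul_zero, zero_add,
        add_zero] at h
      rcases hdich ((x - y) 1) with e | e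
      · exact e
      · rw [e, one_smul] at h; exact absurd h hv
    rw [h1, zero_smul, add_zero] at h0
    funext i
    rcases hdich ((x - y) 0) with e0 | e0 <;> rcases hdich ((x - y) 2) with e2 | e2
    · fin_cases i
      · exact e0
      · exact h1
      · exact e2
    · rw [e0, e2, zero_smul, one_smul, zero_add] at h0; exact absurd h0 hu0
    · rw [e0, e2, zero_smul, one_smul, add_zero] at h0; exact absurd h0 hv
    · rw [e0, e2, one_smul, one_smul] at h0
      have h := eq_neg_of_add_eq_zero_right h0
      rw [neg_eq_of_add_eq_zero_left (htwo _)] at h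
      exact absurd h huw
  refine ⟨hunit.unit, ?_⟩
  show A * P = P * t32
  refine Matrix.ext_of_mulVec_single fun i => ?_
  rw [← Matrix.mulVec_mulVec, ← Matrix.mulVec_mulVec, hP, hP]
  have hAf : ∀ x, A.mulVec x = f x + x := fun x => by
    show A.mulVec x = A.mulVec x + x + x
    rw [add_assoc, htwo, add_zero]
  fin_cases i <;> simp [t32, hAf, hff, hu, Matrix.mulVec, dotProduct, Fin.sum_univ_three]

theorem invol_conj {a b : G32} (ha : a * a = 1) (ha1 : a ≠ 1) (hb : b * b = 1) (hb1 : b ≠ 1) :
    ∃ p : G32, p * a * p⁻¹ = b := by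
  obtain ⟨p, hp⟩ := exists_to_transvection a ha ha1
  obtain ⟨q, hq⟩ := exists_to_transvection b hb hb1
  refine ⟨q * p⁻¹, Units.ext ?_⟩
  have e1 : (↑(p⁻¹ * a * p) : Matrix (Fin 3) (Fin 3) (ZMod 2)) = t32 := by
    rw [Units.val_mul, Units.val_mul, mul_assoc, hp, ← mul_assoc, ← Units.val_mul, inv_mul_cancel,
      Units.val_one, one_mul]
  rw [show q * p⁻¹ * a * (q * p⁻¹)⁻¹ = q * (p⁻¹ * a * p) * q⁻¹ by group, Units.val_mul, Units.val_mul,
    e1, ← hq, mul_assoc, ← Units.val_mul, mul_inv_cancel, Units.val_one, mul_one]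

/-- A group embedded in `GL(3,2)` without subgroups of index two, with a self-normalizing subgroup of
order eight, is the whole of it. -/
theorem surj_of_self_normalizing {X : Type u} [Group X] [Finite X] (f : X →* G32)
    (hf : Function.Injective f) (S : Subgroup X) (hS : Nat.card S = 8)
    (hN : Subgroup.normalizer (S : Set X) = S) (h2 : ∀ K : Subgroup X, K.index ≠ 2) :
    Function.Surjective f := by
  classical
  haveI := Fact.mk Nat.prime_two
  have hd : Nat.card X ∣ 168 := card_G32 ▸ Subgroup.card_dvd_of_injective f hf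
  have h8 : 8 ∣ Nat.card X := hS ▸ Subgroup.card_subgroup_dvd_card S
  obtain ⟨k, hk⟩ := h8
  have hk21 : k ∣ 21 := Nat.dvd_of_mul_dvd_mul_left (by norm_num : 0 < 8) (by rw [← hk]; exact hd)
  have hcase : k = 1 ∨ k = 3 ∨ k = 7 ∨ k = 21 := by
    have hmem : k ∈ Nat.divisors 21 := Nat.mem_divisors.2 ⟨hk21, by norm_num⟩
    have hlist : Nat.divisors 21 = {1, 3, 7, 21} := by decide
    simpa [hlist] using hmem
  rcases hcase with rfl | rfl | rfl | rfl
  · exfalso
    obtain ⟨K, hK⟩ := Sylow.exists_subgroup_card_pow_prime 2 (G := X) (n := 2) (by rw [hk]; norm_num)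
    refine h2 K ?_
    have h := Subgroup.card_mul_index K
    rw [hK, hk] at h
    omega
  · exfalso
    have hidx : S.index = 3 := by
      have h := Subgroup.card_mul_index S
      rw [hS, hk] at h
      omega
    haveI := Fintype.ofFinite (X ⧸ S)
    let e : X ⧸ S ≃ Fin 3 := (Finite.equivFin _).trans (finCongr hidx)
    let sg : X →* ℤˣ := Equiv.Perm.sign.comp (MulAction.toPermHom X (X ⧸ S))
    have hsg : sg ≠ 1 := by
      intro hsg
      have hne : S ≠ ⊤ := fun he => by rw [he, Subgroup.card_top, hk] at hS; omega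
      have hall : ∀ s ∈ S, ∀ q : X ⧸ S, s • q = q := by
        intro s hs q
        let σ := e.permCongr (MulAction.toPermHom X (X ⧸ S) s)
        have hfix : σ (e (QuotientGroup.mk 1)) = e (QuotientGroup.mk 1) := by
          show e (s • (e.symm (e (QuotientGroup.mk 1)))) = _
          rw [Equiv.symm_apply_apply]
          congr 1
          show (QuotientGroup.mk (s * 1) : X ⧸ S) = QuotientGroup.mk 1
          rw [QuotientGroup.eq]
          simpa using S.inv_mem hs
        have hsign : Equiv.Perm.sign σ = 1 := by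
          rw [Equiv.Perm.sign_permCongr]
          exact DFunLike.congr_fun hsg s
        have hσ : σ = 1 :=
          (by decide : ∀ σ : Equiv.Perm (Fin 3), ∀ i, σ i = i → Equiv.Perm.sign σ = 1 → σ = 1)
            σ _ hfix hsign
        have := congrArg (fun τ : Equiv.Perm (Fin 3) => e.symm (τ (e q))) hσ
        simpa [σ] using this
      have hnorm : S.Normal := ⟨fun s hs g => by
        have h : (QuotientGroup.mk (s * g⁻¹) : X ⧸ S) = QuotientGroup.mk g⁻¹ :=
          hall s hs (QuotientGroup.mk g⁻¹)
        have h' := QuotientGroup.eq.1 h.symm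
        simpa [mul_assoc] using h'⟩
      exact hne (hN ▸ Subgroup.normalizer_eq_top S)
    refine h2 sg.ker ?_
    rw [Subgroup.index_ker]
    have hd2 := Subgroup.card_subgroup_dvd_card sg.range
    rw [Nat.card_eq_fintype_card (α := ℤˣ), Fintype.card_units_int] at hd2
    rcases (Nat.dvd_prime Nat.prime_two).1 hd2 with h | h
    · exact absurd (MonoidHom.range_eq_bot_iff.1 (Subgroup.card_eq_one.1 h)) hsg
    · exact h
  · exfalso
    haveI := simple_G32
    have hidx : f.range.index = 3 := by
      have h := Subgroup.card_mul_index f.range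
      rw [← Nat.card_congr (MonoidHom.ofInjective hf).toEquiv, card_G32, hk] at h
      omega
    have hbot : f.range.normalCore = ⊥ := by
      rcases f.range.normalCore_normal.eq_bot_or_eq_top with h | h
      · exact h
      · have := f.range.normalCore_le
        rw [h, top_le_iff] at this
        rw [this, Subgroup.index_top] at hidx
        omega
    rw [Subgroup.normalCore_eq_ker] at hbot
    have hle := Nat.card_le_card_of_injective _ ((MonoidHom.ker_eq_bot_iff _).1 hbot)
    rw [Nat.card_perm, show Nat.card (G32 ⧸ f.range) = f.range.index from rfl, hidx, card_G32] at hle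
    norm_num at hle
  · rw [← MonoidHom.range_eq_top]
    exact Subgroup.eq_top_of_card_eq _ (by rw [← Nat.card_congr (MonoidHom.ofInjective hf).toEquiv, hk, card_G32])

end Cfsg.Agent.Lib.Inv59.RudT
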