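import Mathlib
import Cfsg.Agent.Lib.Inv59.RudT.Basic

/-!
# The structure of 2-groups with a large centralizer of the third term of the upper central series
-/

set_option autoImplicit false
set_option linter.unusedSectionVars false
set_option linter.style.haveILetI false

namespace Cfsg.Agent.Lib.Inv59.RudT

open scoped commutatorElement

universe u

section Triples

/-- Unitriangular 3 by 3 matrices over the field with two elements. -/
abbrev Tri : Type := ZMod 2 × ZMod 2 × ZMod 2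

/-- Their product. -/
def triMul (p q : Tri) : Tri := (p.1 + q.1, p.2.1 + q.2.1 + p.2.2 * q.1, p.2.2 + q.2.2)

/-- The isomorphism with the dihedral group of order 8. -/
def triOf : DihedralGroup 4 → Tri
  | .r i => ![((0, 0, 0) : Tri), (1, 0, 1), (0, 1, 0), (1, 1, 1)] i
  | .sr i => ![((1, 0, 0) : Tri), (0, 0, 1), (1, 1, 0), (0, 1, 1)] i

theorem triOf_bijective : Function.Bijective triOf :=
  ⟨by decide, by decide⟩

theorem triOf_mul : ∀ x y, triOf (x * y) = triMul (triOf x) (triOf y) := by decide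

end Triples

/-- Functions on the dihedral group of order 8. -/
abbrev K8 : Type := DihedralGroup 4 → ZMod 2

/-- Translation. -/
def shift (g : DihedralGroup 4) (v : K8) : K8 := fun x => v (x * g)

open DihedralGroup in
theorem form_vanish {Q : K8 → ZMod 2} {B : K8 → K8 → ZMod 2}
    (hQ : ∀ v w, Q (v + w) = Q v + Q w + B v w) (hB : ∀ u v w, B (u + v) w = B u w + B v w)
    (hBc : ∀ v w, B v w = B w v) (hQS : ∀ g v, Q (shift g v) = Q v)
    (hBS : ∀ g v w, B (shift g v) (shift g w) = B v w)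
    (hfix : ∀ v, ∀ g : DihedralGroup 4, g = r 2 ∨ g = sr 0 ∨ g = sr 2 → B v (shift g v) = 0)
    (hone : ∀ v, B (fun _ => 1) v = 0)
    {v : K8} {c : ZMod 2} (hv : ∀ x, v x + v (x * r 2) = c) : Q v = 0 := by
  have hB' : ∀ u v w, B u (v + w) = B u v + B u w := fun u v w => by
    rw [hBc, hB, hBc v, hBc w]
  have hB0 : ∀ w, B 0 w = 0 := fun w => by
    have := hB 0 0 w
    rw [add_zero, CharTwo.add_self_eq_zero] at this
    exact this
  have hQ0 : Q 0 = 0 := by
    have := hQ 0 0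
    rw [add_zero, hB0, CharTwo.add_self_eq_zero, add_zero] at this
    exact this
  have hBvv : ∀ w, B w w = 0 := fun w => by
    have := hQ w w
    have e : w + w = 0 := funext fun _ => CharTwo.add_self_eq_zero _
    rw [e, hQ0, CharTwo.add_self_eq_zero, zero_add] at this
    exact this.symm
  have hSS : ∀ a b w, shift a (shift b w) = shift (a * b) w := fun a b w => by
    funext x; simp [shift, mul_assoc]
  have hS1 : ∀ w, shift 1 w = w := fun w => by funext x; simp [shift]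
  -- invariant functions
  have hinv : ∀ w : K8, (∀ x, w x + w (x * r 2) = 0) → ∃ u, w = u + shift (r 2) u := by
    intro w hw
    refine ⟨fun x => if x ∈ [(1 : DihedralGroup 4), sr 0, r 1, sr 1] then w x else 0, ?_⟩
    funext x
    have e := CharTwo.add_eq_zero.1 (hw x)
    have key : ∀ x : DihedralGroup 4,
        (x ∈ [(1 : DihedralGroup 4), sr 0, r 1, sr 1] ∧
          x * r 2 ∉ [(1 : DihedralGroup 4), sr 0, r 1, sr 1]) ∨
        (x ∉ [(1 : DihedralGroup 4), sr 0, r 1, sr 1] ∧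
          x * r 2 ∈ [(1 : DihedralGroup 4), sr 0, r 1, sr 1]) := by decide
    show w x = (if x ∈ [(1 : DihedralGroup 4), sr 0, r 1, sr 1] then w x else 0) +
      (if x * r 2 ∈ [(1 : DihedralGroup 4), sr 0, r 1, sr 1] then w (x * r 2) else 0)
    rcases key x with ⟨h1, h2⟩ | ⟨h1, h2⟩
    · rw [if_pos h1, if_neg h2, add_zero]
    · rw [if_neg h1, if_pos h2, zero_add, e]
  have hQp : ∀ u, Q (u + shift (r 2) u) = 0 := fun u => by
    rw [hQ, hQS, hfix u _ (Or.inl rfl), CharTwo.add_self_eq_zero, add_zero]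
  -- the indicator of a transversal
  let d : K8 := fun x => if x = 1 then 1 else 0
  let m : K8 := d + shift (sr 0) d
  let ind : K8 := m + shift (r 3) m
  let β : DihedralGroup 4 → ZMod 2 := fun g => B d (shift g d)
  have hβ : ∀ a b, B (shift a d) (shift b d) = β (a⁻¹ * b) := fun a b => by
    rw [← hBS a⁻¹, hSS, hSS, inv_mul_cancel, hS1]
  have hm : Q m = 0 := by
    rw [hQ, hQS, hfix d _ (Or.inr (Or.inl rfl)), CharTwo.add_self_eq_zero, add_zero]
  have hsum : β (sr 1) + β (sr 3) = 0 := by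
    have e : (fun _ => 1 : K8) = d + shift (r 1) d + shift (r 2) d + shift (r 3) d +
        shift (sr 0) d + shift (sr 1) d + shift (sr 2) d + shift (sr 3) d := by
      funext x; revert x; simp only [d, shift, Pi.add_apply]; decide
    have h := hone d
    rw [hBc, e] at h
    simp only [hB'] at h
    rw [hBvv, hfix d _ (Or.inl rfl), hfix d _ (Or.inr (Or.inl rfl)),
      hfix d _ (Or.inr (Or.inr rfl))] at h
    have h13 : B d (shift (r 3) d) = B d (shift (r 1) d) := by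
      have := hβ (r 1) 1
      rw [hS1, show (r (1 : ZMod 4))⁻¹ * 1 = r 3 by decide] at this
      exact this.symm.trans (hBc _ _)
    rw [h13] at h
    show B d (shift (sr 1) d) + B d (shift (sr 3) d) = 0
    linear_combination h - (CharTwo.add_self_eq_zero (B d (shift (r 1) d)))
  have hind : Q ind = 0 := by
    rw [hQ, hQS, hm, zero_add, zero_add]
    simp only [m, hB, hB', shift]
    have e : ∀ g : DihedralGroup 4, (fun x => d (x * g)) = shift g d := fun g => rfl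
    have e2 : ∀ a g : DihedralGroup 4, (fun x => shift a d (x * g)) = shift (g * a) d := fun a g => by
      rw [← hSS]; rfl
    change B d (shift (r 3) (d + shift (sr 0) d)) + B (shift (sr 0) d) (shift (r 3) (d + shift (sr 0) d)) = 0
    have e3 : shift (r 3) (d + shift (sr 0) d) = shift (r 3) d + shift (r 3 * sr 0) d := by
      rw [← hSS]; rfl
    rw [e3, hB', hB', hβ, hβ]
    rw [show (sr (0 : ZMod 4))⁻¹ * r 3 = sr 3 by decide,
      show (sr (0 : ZMod 4))⁻¹ * (r 3 * sr 0) = r 1 by decide,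
      show r (3 : ZMod 4) * sr 0 = sr 1 by decide]
    have h13 : β (r 3) = β (r 1) := by
      have := hβ (r 1) 1
      rw [hS1, show (r (1 : ZMod 4))⁻¹ * 1 = r 3 by decide] at this
      exact this.symm.trans (hBc _ _)
    show β (r 3) + β (sr 1) + (β (sr 3) + β (r 1)) = 0
    rw [h13]
    linear_combination hsum + CharTwo.add_self_eq_zero (β (r 1))
  by_cases hc : c = 0
  · subst hc
    obtain ⟨u, rfl⟩ := hinv v hv
    exact hQp u
  · have hc1 : c = 1 := (by decide : ∀ a : ZMod 2, a ≠ 0 → a = 1) c hc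
    subst hc1
    have hindx : ∀ x : DihedralGroup 4, ind x + ind (x * r 2) = 1 := by
      simp only [ind, m, d, shift, Pi.add_apply]; decide
    obtain ⟨u, hu⟩ := hinv (v + ind) fun x => by
      simp only [Pi.add_apply]
      rw [add_add_add_comm, hv, hindx, CharTwo.add_self_eq_zero]
    have e : v = ind + (u + shift (r 2) u) := by
      rw [← hu]; funext x; simp only [Pi.add_apply]
      rw [add_left_comm, CharTwo.add_self_eq_zero, add_zero]
    rw [e, hQ, hind, hQp, zero_add, zero_add, hB']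
    have : B ind (shift (r 2) u) = B (shift (r 2) ind) u := by
      rw [← hBS (r 2) ind, hSS, show r (2 : ZMod 4) * r 2 = 1 by decide, hS1]
    rw [this, ← hB, show ind + shift (r 2) ind = (fun _ => 1) from funext hindx]
    exact hone u

variable {T : Type u} [Group T] [Finite T] {W : Subgroup T}

local notation "Zc" => Subgroup.upperCentralSeries T

theorem conj_step {i : ℕ} {e : T} (he : e ∈ Zc (i + 1)) (t : T) : e⁻¹ * (t * e * t⁻¹) ∈ Zc i := by
  have h := Subgroup.mem_upperCentralSeries_succ_iff.1 ((Zc (i + 1)).inv_mem he) t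
  rw [commutatorElement_def, inv_inv] at h
  convert h using 1
  group

/-- `e` or `1`. -/
def pw (e : T) (x : ZMod 2) : T := if x = 0 then 1 else e

theorem pw_add {e : T} (he : e * e = 1) (x y : ZMod 2) : pw e (x + y) = pw e x * pw e y := by
  rcases (by decide : ∀ a : ZMod 2, a = 0 ∨ a = 1) x with rfl | rfl <;>
    rcases (by decide : ∀ a : ZMod 2, a = 0 ∨ a = 1) y with rfl | rfl <;>
      simp [pw, he, CharTwo.add_self_eq_zero]

namespace Hyp

variable (H : Hyp T W)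
include H

theorem comm_Z {z w : T} (hz : z ∈ Zc 3) (hw : w ∈ W) : z * w = w * z := by
  rw [H.eq, Subgroup.mem_centralizer_iff] at hw
  exact hw z hz

theorem comm_mem {a b : T} (ha : a ∈ W) (hb : b ∈ W) : ⁅a, b⁆ ∈ Zc 3 := by
  have e : ⁅a, b⁆ = (a * b) * (a * b) * (b⁻¹ * (a * a)⁻¹ * b) * (b * b)⁻¹ := by
    rw [commutatorElement_def]; group
  rw [e]
  refine (Zc 3).mul_mem ((Zc 3).mul_mem (H.sq_mem (W.mul_mem ha hb)) ?_) ((Zc 3).inv_mem (H.sq_mem hb))
  simpa using (inferInstance : (Zc 3).Normal).conj_mem _ ((Zc 3).inv_mem (H.sq_mem ha)) b⁻¹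

theorem comm_eq : ⁅W, W⁆ = Zc 3 := by
  haveI := H.W_normal
  have hle : ⁅W, W⁆ ≤ Zc 3 := Subgroup.commutator_le.2 fun a ha b hb => H.comm_mem ha hb
  by_contra hne
  have h2 : ⁅W, W⁆ ≤ Zc 2 := by
    refine H.small _ (by omega) ?_
    have := two_mul_card_le hle fun h => hne (le_antisymm hle h)
    rw [H.card_Z (by omega)] at this
    omega
  let A : Subgroup T :=
    { carrier := {w | w ∈ W ∧ w * w ∈ Zc 2}
      one_mem' := ⟨W.one_mem, by simp⟩
      mul_mem' := fun {a b} ha hb => ⟨W.mul_mem ha.1 hb.1, by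
        rw [show (a * b) * (a * b) = (a * a) * ⁅a⁻¹, b⁆ * (b * b) by rw [commutatorElement_def]; group]
        exact (Zc 2).mul_mem ((Zc 2).mul_mem ha.2
          (h2 (Subgroup.commutator_mem_commutator (W.inv_mem ha.1) hb.1))) hb.2⟩
      inv_mem' := fun {a} ha => ⟨W.inv_mem ha.1, by simpa using (Zc 2).inv_mem ha.2⟩ }
  obtain ⟨e, he, he'⟩ := H.exists_e (i := 2) (by omega)
  have hYA : Zc 2 ≤ A := fun x hx => ⟨H.Z2_le hx, (Zc 2).mul_mem hx hx⟩
  have heA : e ∈ A := ⟨H.Z3_le he, H.cos_right (by omega) he he' he he'⟩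
  refine H.no_sub (A := A) (fun x hx => hx.1) hYA (fun x hx => hx.2) heA he' (H.phi_eq ▸ he) ?_
  by_cases hall : W ≤ A
  · have := Subgroup.card_le_of_le hall; omega
  obtain ⟨w₀, hw₀, hw₀'⟩ := SetLike.not_le_iff_exists.1 hall
  have hprod : ∀ a ∈ W, a ∉ A → a * w₀ ∈ A := fun a ha ha' => by
    refine ⟨W.mul_mem ha hw₀, ?_⟩
    have h1 : a * a * (w₀ * w₀) ∈ Zc 2 := H.cos_right (by omega) (H.sq_mem ha)
      (fun h => ha' ⟨ha, h⟩) (H.sq_mem hw₀) (fun h => hw₀' ⟨hw₀, h⟩)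
    rw [show (a * w₀) * (a * w₀) =
      (a * a * (w₀ * w₀)) * ((w₀ * w₀)⁻¹ * ⁅a⁻¹, w₀⁆ * (w₀ * w₀)⁻¹⁻¹) by
        rw [commutatorElement_def]; group]
    exact (Zc 2).mul_mem h1 ((inferInstance : (Zc 2).Normal).conj_mem _
      (h2 (Subgroup.commutator_mem_commutator (W.inv_mem ha) hw₀)) _)
  have hsub : (W : Set T) ⊆ (A : Set T) ∪ (fun v => v * w₀⁻¹) '' (A : Set T) := by
    intro x hx
    by_cases h : x ∈ A
    · exact Or.inl h
    · exact Or.inr ⟨x * w₀, hprod x hx h, by group⟩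
  have h := (Set.ncard_le_ncard hsub (Set.toFinite _)).trans (Set.ncard_union_le _ _)
  rw [Set.ncard_image_of_injective _ (mul_left_injective w₀⁻¹)] at h
  show Nat.card (W : Set T) ≤ 8 * Nat.card (A : Set T)
  rw [Nat.card_coe_set_eq, Nat.card_coe_set_eq]
  omega

theorem elem {z : T} (hz : z ∈ Zc 3) : z * z = 1 := by
  let K : Subgroup T :=
    { carrier := {x | x ∈ Zc 3 ∧ x * x = 1}
      one_mem' := ⟨one_mem _, by simp⟩
      mul_mem' := fun {a b} ha hb => ⟨(Zc 3).mul_mem ha.1 hb.1, by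
        rw [show a * b * (a * b) = a * (b * a) * b by group,
          ← H.comm_Z ha.1 (H.Z3_le hb.1), ← mul_assoc, ha.2, one_mul, hb.2]⟩
      inv_mem' := fun {a} ha => ⟨(Zc 3).inv_mem ha.1, by rw [← mul_inv_rev, ha.2, inv_one]⟩ }
  have h : ⁅W, W⁆ ≤ K := Subgroup.commutator_le.2 fun a ha b hb => by
    refine ⟨H.comm_mem ha hb, ?_⟩
    have h1 : ⁅a * a, b⁆ = 1 := by
      rw [commutatorElement_eq_one_iff_mul_comm]
      exact H.comm_Z (H.sq_mem ha) hb
    have h2 : ⁅a * a, b⁆ = a * ⁅a, b⁆ * a⁻¹ * ⁅a, b⁆ := by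
      simp only [commutatorElement_def]; group
    rw [h2, ← H.comm_Z (H.comm_mem ha hb) ha, mul_assoc _ a, mul_inv_cancel, mul_one] at h1
    exact h1
  rw [H.comm_eq] at h
  exact (h hz).2

theorem exists_g : ∃ g : T →* DihedralGroup 4, Function.Surjective g ∧ g.ker = W ∧
    ∀ t, g t = .r 2 ∨ g t = .sr 0 ∨ g t = .sr 2 → ∀ z ∈ Zc 3, t * z * t⁻¹ = z → z ∈ Zc 2 := by
  classical
  obtain ⟨e₁, h1⟩ := H.exists_e (i := 0) (by omega)
  obtain ⟨e₂, h2⟩ := H.exists_e (i := 1) (by omega)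
  obtain ⟨e₃, h3⟩ := H.exists_e (i := 2) (by omega)
  have z13 : Zc 1 ≤ Zc 3 := Z_mono (by omega)
  have z23 : Zc 2 ≤ Zc 3 := Z_mono (by omega)
  have q1 : e₁ * e₁ = 1 := H.elem (z13 h1.1)
  have q2 : e₂ * e₂ = 1 := H.elem (z23 h2.1)
  have hone1 : e₁ ≠ 1 := fun h => h1.2 (h ▸ one_mem _)
  have hcen : ∀ t : T, t * e₁ = e₁ * t := fun t => by
    have := h1.1
    rw [Subgroup.upperCentralSeries_one] at this
    exact Subgroup.mem_center_iff.1 this t
  have m1 : ∀ x, pw e₁ x ∈ Zc 1 := fun x => by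
    by_cases h : x = 0
    · simp [pw, h]
    · rw [pw, if_neg h]; exact h1.1
  have m2 : ∀ x, pw e₂ x ∈ Zc 2 := fun x => by
    by_cases h : x = 0
    · simp [pw, h]
    · rw [pw, if_neg h]; exact h2.1
  have cen : ∀ (x : ZMod 2) (t : T), t * pw e₁ x = pw e₁ x * t := fun x t => by
    by_cases h : x = 0 <;> simp [pw, h, hcen]
  have s1 : ∀ x ∈ Zc 1, ∃ a, x = pw e₁ a := fun x hx => by
    by_cases h : x ∈ Zc 0
    · exact ⟨0, by simpa [pw] using h⟩
    · have h' := H.cos (by omega) h1.1 h1.2 hx h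
      have : e₁⁻¹ * x = 1 := by simpa using h'
      exact ⟨1, by simp [pw, inv_mul_eq_one.1 this]⟩
  have s2 : ∀ x ∈ Zc 2, ∃ a b, x = pw e₁ a * pw e₂ b := fun x hx => by
    by_cases h : x ∈ Zc 1
    · obtain ⟨a, rfl⟩ := s1 x h
      exact ⟨a, 0, by simp [pw]⟩
    · obtain ⟨a, ha⟩ := s1 _ (H.cos (by omega) h2.1 h2.2 hx h)
      refine ⟨a, 1, ?_⟩
      rw [← cen a, ← ha]; simp [pw]
  have inj1 : ∀ x y, pw e₁ x = pw e₁ y → x = y := fun x y h => by
    rcases (by decide : ∀ a : ZMod 2, a = 0 ∨ a = 1) x with rfl | rfl <;>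
      rcases (by decide : ∀ a : ZMod 2, a = 0 ∨ a = 1) y with rfl | rfl <;>
        simp [pw, hone1, Ne.symm hone1] at h ⊢
  have inj2 : ∀ x y x' y', pw e₁ x * pw e₂ y = pw e₁ x' * pw e₂ y' → x = x' ∧ y = y' := by
    intro x y x' y' h
    have hy : y = y' := by
      by_contra hy
      apply h2.2
      rcases (by decide : ∀ a : ZMod 2, a = 0 ∨ a = 1) y with rfl | rfl <;>
        rcases (by decide : ∀ a : ZMod 2, a = 0 ∨ a = 1) y' with rfl | rfl
      · exact absurd rfl hy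
      · have e : e₂ = (pw e₁ x')⁻¹ * pw e₁ x := by
          have h' : pw e₁ x = pw e₁ x' * e₂ := by simpa [pw] using h
          rw [h']; group
        rw [e]; exact (Zc 1).mul_mem ((Zc 1).inv_mem (m1 _)) (m1 _)
      · have e : e₂ = (pw e₁ x)⁻¹ * pw e₁ x' := by
          have h' : pw e₁ x * e₂ = pw e₁ x' := by simpa [pw] using h
          rw [← h']; group
        rw [e]; exact (Zc 1).mul_mem ((Zc 1).inv_mem (m1 _)) (m1 _)
      · exact absurd rfl hy
    subst hy
    exact ⟨inj1 _ _ (mul_right_cancel h), rfl⟩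
  let P : T → Tri → Prop := fun t p =>
    t * e₂ * t⁻¹ = pw e₁ p.2.2 * e₂ ∧ t * e₃ * t⁻¹ = pw e₁ p.2.1 * pw e₂ p.1 * e₃
  have hex : ∀ t, ∃ p, P t p := fun t => by
    have a2 : t * e₂ * t⁻¹ * e₂⁻¹ ∈ Zc 1 := by
      have h := (inferInstance : (Zc 1).Normal).conj_mem _ (conj_step h2.1 t) e₂
      simpa [mul_assoc] using h
    have a3 : t * e₃ * t⁻¹ * e₃⁻¹ ∈ Zc 2 := by
      have h := (inferInstance : (Zc 2).Normal).conj_mem _ (conj_step h3.1 t) e₃
      simpa [mul_assoc] using h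
    obtain ⟨c, hc⟩ := s1 _ a2
    obtain ⟨b, a, hba⟩ := s2 _ a3
    exact ⟨(a, b, c), mul_inv_eq_iff_eq_mul.1 hc, mul_inv_eq_iff_eq_mul.1 hba⟩
  have huniq : ∀ t p q, P t p → P t q → p = q := by
    intro t p q hp hq
    have e2 := inj1 _ _ (mul_right_cancel (hp.1.symm.trans hq.1))
    obtain ⟨e3, e4⟩ := inj2 _ _ _ _ (mul_right_cancel (hp.2.symm.trans hq.2))
    exact Prod.ext e4 (Prod.ext e3 e2)
  choose χ hχ using hex
  have hmul : ∀ s t, χ (s * t) = triMul (χ s) (χ t) := by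
    intro s t
    refine huniq _ _ _ (hχ _) ⟨?_, ?_⟩
    · calc s * t * e₂ * (s * t)⁻¹ = s * (t * e₂ * t⁻¹) * s⁻¹ := by group
        _ = s * pw e₁ (χ t).2.2 * e₂ * s⁻¹ := by rw [(hχ t).1]; group
        _ = pw e₁ (χ t).2.2 * (s * e₂ * s⁻¹) := by rw [cen]; group
        _ = _ := by
          rw [(hχ s).1, ← mul_assoc, ← pw_add q1]
          simp [triMul, add_comm]
    · have hs : s * pw e₂ (χ t).1 * s⁻¹ = pw e₁ ((χ s).2.2 * (χ t).1) * pw e₂ (χ t).1 := by
        rcases (by decide : ∀ a : ZMod 2, a = 0 ∨ a = 1) (χ t).1 with h | h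
        · simp [h, pw]
        · have := (hχ s).1
          simpa [h, pw] using this
      calc s * t * e₃ * (s * t)⁻¹ = s * (t * e₃ * t⁻¹) * s⁻¹ := by group
        _ = (s * pw e₁ (χ t).2.1) * pw e₂ (χ t).1 * e₃ * s⁻¹ := by rw [(hχ t).2]; group
        _ = pw e₁ (χ t).2.1 * (s * pw e₂ (χ t).1 * s⁻¹) * (s * e₃ * s⁻¹) := by rw [cen]; group
        _ = pw e₁ (χ t).2.1 * pw e₁ ((χ s).2.2 * (χ t).1) * (pw e₂ (χ t).1 * pw e₁ (χ s).2.1) *
              pw e₂ (χ s).1 * e₃ := by rw [hs, (hχ s).2]; group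
        _ = pw e₁ (χ t).2.1 * pw e₁ ((χ s).2.2 * (χ t).1) * pw e₁ (χ s).2.1 *
              (pw e₂ (χ t).1 * pw e₂ (χ s).1) * e₃ := by rw [cen (χ s).2.1 (pw e₂ (χ t).1)]; group
        _ = _ := by
          rw [← pw_add q2, ← pw_add q1, ← pw_add q1]
          congr 2
          · congr 1; simp only [triMul]; ring
          · simp [triMul, add_comm]
  let f := Equiv.ofBijective triOf triOf_bijective
  let g : T →* DihedralGroup 4 := MonoidHom.mk' (fun t => f.symm (χ t)) fun s t => by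
    apply f.injective
    rw [Equiv.apply_symm_apply, hmul]
    show _ = triOf _
    rw [triOf_mul]
    exact congrArg₂ triMul (f.apply_symm_apply _).symm (f.apply_symm_apply _).symm
  have hf : ∀ t, triOf (g t) = χ t := fun t => f.apply_symm_apply _
  have hker : g.ker = W := by
    ext t
    rw [MonoidHom.mem_ker]
    constructor
    · intro ht
      have h0 : χ t = (0, 0, 0) := by rw [← hf, ht]; rfl
      have p2 := (hχ t).1
      have p3 := (hχ t).2
      rw [h0] at p2 p3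
      simp [pw] at p2 p3
      exact H.mem_of_fix h1 h2 h3 (mul_inv_eq_iff_eq_mul.1 p2) (mul_inv_eq_iff_eq_mul.1 p3)
    · intro ht
      apply triOf_bijective.1
      rw [hf]
      refine huniq t _ _ (hχ t) ?_
      have c2 : t * e₂ * t⁻¹ = e₂ := by rw [← H.comm_Z (z23 h2.1) ht]; group
      have c3 : t * e₃ * t⁻¹ = e₃ := by rw [← H.comm_Z h3.1 ht]; group
      have h0 : triOf 1 = ((0, 0, 0) : Tri) := by decide
      rw [h0]
      exact ⟨by simpa [pw] using c2, by simpa [pw] using c3⟩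
  refine ⟨g, MonoidHom.range_eq_top.1 (Subgroup.eq_top_of_card_eq _ ?_), hker, ?_⟩
  · rw [← Subgroup.index_ker, hker, H.card_eq.2.1, DihedralGroup.nat_card]
  intro t ht z hz hfix
  by_contra hz2
  obtain ⟨y, x, hyx⟩ := s2 _ (H.cos (by omega) h3.1 h3.2 hz hz2)
  have hzeq : z = e₃ * (pw e₁ y * pw e₂ x) := by rw [← hyx]; group
  have hx : t * pw e₂ x * t⁻¹ = pw e₁ ((χ t).2.2 * x) * pw e₂ x := by
    rcases (by decide : ∀ a : ZMod 2, a = 0 ∨ a = 1) x with h | h
    · simp [h, pw]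
    · simpa [h, pw] using (hχ t).1
  have hconj : t * z * t⁻¹ =
      pw e₁ ((χ t).2.1 + (χ t).2.2 * x) * pw e₂ (χ t).1 * z := by
    calc t * z * t⁻¹ = t * e₃ * t⁻¹ * (t * pw e₁ y * t⁻¹) * (t * pw e₂ x * t⁻¹) := by
          rw [hzeq]; group
      _ = pw e₁ (χ t).2.1 * pw e₂ (χ t).1 * e₃ * pw e₁ y *
          (pw e₁ ((χ t).2.2 * x) * pw e₂ x) := by
          rw [(hχ t).2, hx, cen y t]; group
      _ = pw e₁ (χ t).2.1 * (pw e₂ (χ t).1 * e₃ * pw e₁ y * pw e₁ ((χ t).2.2 * x)) * pw e₂ x := by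
          group
      _ = pw e₁ (χ t).2.1 * pw e₁ ((χ t).2.2 * x) * (pw e₂ (χ t).1 * e₃ * pw e₁ y) * pw e₂ x := by
          rw [cen]; group
      _ = _ := by rw [pw_add q1, hzeq]; group
  rw [hfix] at hconj
  have h0 : pw e₁ ((χ t).2.1 + (χ t).2.2 * x) * pw e₂ (χ t).1 = pw e₁ 0 * pw e₂ 0 := by
    rw [right_eq_mul.1 hconj]; simp [pw]
  obtain ⟨ha, hb⟩ := inj2 _ _ _ _ h0
  rw [← hf] at ha hb
  revert ha hb
  generalize x = x
  rcases ht with h | h | h <;> rw [h] <;> revert x <;> decide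

theorem exists_phi (g : T →* DihedralGroup 4) (hg : Function.Surjective g) (hker : g.ker = W) :
    ∃ φ : T → K8, (∀ a ∈ W, ∀ b ∈ W, φ (a * b) = φ a + φ b) ∧
      (∀ w ∈ W, φ w = 0 ↔ w ∈ Zc 3) ∧ (∀ v, ∃ w ∈ W, φ w = v) ∧
      ∀ (t : T), ∀ w ∈ W, φ (t * w * t⁻¹) = shift (g t) (φ w) := by
  haveI := H.W_normal
  obtain ⟨z, hzW, hz, hz'⟩ := exists_step H.pg W (i := 3) (H.not_le_Z (by omega))
  obtain ⟨μ, hadd, hQ, hz1⟩ := H.exists_mu H.Z3_le (fun w hw => H.sq_mem hw) hzW hz'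
  let τ := Function.surjInv hg
  have hτ : ∀ x, g (τ x) = x := Function.surjInv_eq hg
  have conjW : ∀ {w : T}, w ∈ W → ∀ t : T, t * w * t⁻¹ ∈ W := fun hw t => H.W_normal.conj_mem _ hw t
  have hwell : ∀ s s' w, g s = g s' → w ∈ W → μ (s * w * s⁻¹) = μ (s' * w * s'⁻¹) := by
    intro s s' w hss hw
    have hn : s' * s⁻¹ ∈ W := by rw [← hker, MonoidHom.mem_ker, map_mul, map_inv, hss, mul_inv_cancel]
    have := H.mu_conj hadd hQ H.Z3_le hn (conjW hw s)
    rw [show (s' * s⁻¹) * (s * w * s⁻¹) * (s' * s⁻¹)⁻¹ = s' * w * s'⁻¹ by group] at this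
    exact this.symm
  let φ : T → K8 := fun w x => μ (τ x * w * (τ x)⁻¹)
  have hφadd : ∀ a ∈ W, ∀ b ∈ W, φ (a * b) = φ a + φ b := fun a ha b hb => by
    funext x
    show μ _ = μ _ + μ _
    rw [← hadd _ (conjW ha _) _ (conjW hb _)]
    congr 1
    group
  have hφ0 : ∀ w ∈ W, φ w = 0 ↔ w ∈ Zc 3 := fun w hw =>
    ⟨fun h => H.ker_mu H.Z3_le hadd hQ hz1 rfl le_rfl ⟨hzW, hz⟩ hw fun t => by
      rw [hwell t (τ (g t)) w (hτ _).symm hw]
      exact congrFun h (g t),
    fun h => funext fun x => hQ _ ((inferInstance : (Zc 3).Normal).conj_mem _ h _)⟩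
  refine ⟨φ, hφadd, hφ0, ?_, fun t w hw => funext fun x => ?_⟩
  · let Φ : W →* Multiplicative K8 :=
      MonoidHom.mk' (fun w => Multiplicative.ofAdd (φ w)) fun a b => by
        rw [← ofAdd_add, ← hφadd _ a.2 _ b.2]; rfl
    have hk : Φ.ker = (Zc 3).subgroupOf W := by
      ext w
      exact hφ0 w w.2
    have hc := Subgroup.card_mul_index Φ.ker
    rw [Subgroup.index_ker, hk, Nat.card_congr (Subgroup.subgroupOfEquivOfLe H.Z3_le).toEquiv,
      H.card_Z (by omega), H.card_eq.1] at hc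
    have htop : Φ.range = ⊤ := Subgroup.eq_top_of_card_eq _ (by
      rw [Nat.card_congr Multiplicative.toAdd, Nat.card_fun, Nat.card_zmod, DihedralGroup.nat_card]
      omega)
    intro v
    obtain ⟨w, hw⟩ := MonoidHom.range_eq_top.1 htop (Multiplicative.ofAdd v)
    exact ⟨w, w.2, congrArg Multiplicative.toAdd hw⟩
  · show μ (τ x * (t * w * t⁻¹) * (τ x)⁻¹) = μ (τ (x * g t) * w * (τ (x * g t))⁻¹)
    rw [← hwell (τ x * t) _ w (by rw [map_mul, hτ, hτ]) hw]
    congr 1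
    group

theorem center_le {w : T} (hw : w ∈ W) (hc : ∀ a ∈ W, a * w = w * a) : w ∈ Zc 3 := by
  classical
  haveI := H.W_normal
  by_contra hw3
  let N : Subgroup T := W ⊓ Subgroup.centralizer (W : Set T)
  haveI : N.Normal := inferInstance
  have hN : ¬ N ≤ Zc 3 := fun h => hw3 (h ⟨hw, Subgroup.mem_centralizer_iff.2 hc⟩)
  obtain ⟨z₀, ⟨hz0W, hz0C⟩, hz0, hz0'⟩ := exists_step H.pg N hN
  have hz0c : ∀ a ∈ W, a * z₀ = z₀ * a := fun a ha => Subgroup.mem_centralizer_iff.1 hz0C a ha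
  obtain ⟨g, hg, hker, hgfix⟩ := H.exists_g
  obtain ⟨φ, hadd, h0, hsurj, heq⟩ := H.exists_phi g hg hker
  choose ψ hψW hψ using hsurj
  let ε : T → ZMod 2 := fun z => if z ∈ Zc 2 then 0 else 1
  have εadd : ∀ a ∈ Zc 3, ∀ b ∈ Zc 3, ε (a * b) = ε a + ε b := by
    intro a ha b hb
    by_cases h1 : a ∈ Zc 2
    · by_cases h2 : b ∈ Zc 2
      · simp [ε, h1, h2, (Zc 2).mul_mem h1 h2]
      · simp [ε, h1, h2, (Zc 2).mul_mem_cancel_left h1]
    · by_cases h2 : b ∈ Zc 2
      · simp [ε, h1, h2, (Zc 2).mul_mem_cancel_right h2]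
      · simp [ε, h1, h2, H.cos_right (by omega : 2 ≤ 3) ha h1 hb h2, CharTwo.add_self_eq_zero]
  have εconj : ∀ (t z : T), ε (t * z * t⁻¹) = ε z := by
    intro t z
    have : t * z * t⁻¹ ∈ Zc 2 ↔ z ∈ Zc 2 :=
      ⟨fun h => by simpa [mul_assoc] using (inferInstance : (Zc 2).Normal).conj_mem _ h t⁻¹,
        fun h => (inferInstance : (Zc 2).Normal).conj_mem _ h t⟩
    simp [ε, this]
  have congW : ∀ a ∈ W, ∀ b ∈ W, φ a = φ b → ∃ z ∈ Zc 3, b = a * z := by
    intro a ha b hb hab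
    refine ⟨a⁻¹ * b, (h0 _ (W.mul_mem (W.inv_mem ha) hb)).1 ?_, by group⟩
    have := hadd a ha _ (W.mul_mem (W.inv_mem ha) hb)
    rw [mul_inv_cancel_left, ← hab] at this
    exact (add_eq_left.1 this.symm)
  have qcong : ∀ a ∈ W, ∀ b ∈ W, φ a = φ b → b * b = a * a := by
    intro a ha b hb hab
    obtain ⟨z, hz, rfl⟩ := congW a ha b hb hab
    rw [show a * z * (a * z) = a * (z * a) * z by group, H.comm_Z hz ha,
      show a * (a * z) * z = a * a * (z * z) by group, H.elem hz, mul_one]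
  have ccong : ∀ a ∈ W, ∀ b ∈ W, φ a = φ b → ∀ c ∈ W, ⁅b, c⁆ = ⁅a, c⁆ := by
    intro a ha b hb hab c hc
    obtain ⟨z, hz, rfl⟩ := congW a ha b hb hab
    rw [show ⁅a * z, c⁆ = a * (z * c * z⁻¹) * a⁻¹ * c⁻¹ by rw [commutatorElement_def]; group,
      H.comm_Z hz hc, mul_inv_cancel_right, commutatorElement_def]
  let Q : K8 → ZMod 2 := fun v => ε (ψ v * ψ v)
  let B : K8 → K8 → ZMod 2 := fun v w => ε ⁅ψ v, ψ w⁆
  have Qval : ∀ a ∈ W, Q (φ a) = ε (a * a) := fun a ha => by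
    show ε _ = _
    rw [qcong a ha _ (hψW _) (hψ _).symm]
  have Bval : ∀ a ∈ W, ∀ b ∈ W, B (φ a) (φ b) = ε ⁅a, b⁆ := fun a ha b hb => by
    show ε ⁅_, _⁆ = _
    rw [ccong a ha _ (hψW _) (hψ _).symm _ (hψW _)]
    rw [← commutatorElement_inv, ccong b hb _ (hψW _) (hψ _).symm _ ha, commutatorElement_inv]
  have hBc : ∀ v w, B v w = B w v := fun v w => by
    show ε _ = ε _
    rw [← commutatorElement_inv (ψ w)]
    simp only [ε, inv_mem_iff]
  have hQ : ∀ v w, Q (v + w) = Q v + Q w + B v w := by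
    intro v w
    have e : v + w = φ (ψ v * ψ w) := by rw [hadd _ (hψW _) _ (hψW _), hψ, hψ]
    rw [e, Qval _ (W.mul_mem (hψW _) (hψW _))]
    have h1 : ψ v * ψ w * (ψ v * ψ w) = ψ v * ψ v * ⁅(ψ v)⁻¹, ψ w⁆ * (ψ w * ψ w) := by
      rw [commutatorElement_def]; group
    have h2 : ⁅(ψ v)⁻¹, ψ w⁆ = ⁅ψ w, ψ v⁆ := by
      rw [show ⁅(ψ v)⁻¹, ψ w⁆ = (ψ v)⁻¹ * ⁅ψ w, ψ v⁆ * ψ v by
        simp only [commutatorElement_def]; group, mul_assoc,
        H.comm_Z (H.comm_mem (hψW _) (hψW _)) (hψW _), inv_mul_cancel_left]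
    have m : ∀ u, ψ u * ψ u ∈ Zc 3 := fun u => H.sq_mem (hψW u)
    rw [h1, h2, εadd _ ((Zc 3).mul_mem (m v) (H.comm_mem (hψW _) (hψW _))) _ (m w),
      εadd _ (m v) _ (H.comm_mem (hψW _) (hψW _))]
    show ε _ + B w v + ε _ = Q v + Q w + B v w
    rw [hBc w v, add_right_comm]
  have hB : ∀ u v w, B (u + v) w = B u w + B v w := by
    intro u v w
    have e : u + v = φ (ψ u * ψ v) := by rw [hadd _ (hψW _) _ (hψW _), hψ, hψ]
    conv_lhs => rw [e, ← hψ w, Bval _ (W.mul_mem (hψW _) (hψW _)) _ (hψW _)]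
    have m := H.comm_mem (hψW v) (hψW w)
    rw [show ⁅ψ u * ψ v, ψ w⁆ = ψ u * ⁅ψ v, ψ w⁆ * (ψ u)⁻¹ * ⁅ψ u, ψ w⁆ by
      simp only [commutatorElement_def]; group, ← H.comm_Z m (hψW u), mul_inv_cancel_right,
      εadd _ m _ (H.comm_mem (hψW u) (hψW w)), add_comm]
  have hS : ∀ t v, shift (g t) v = φ (t * ψ v * t⁻¹) := fun t v => by rw [heq t _ (hψW v), hψ]
  have cW : ∀ (t : T) v, t * ψ v * t⁻¹ ∈ W := fun t v => H.W_normal.conj_mem _ (hψW v) t
  have hQS : ∀ x v, Q (shift x v) = Q v := fun x v => by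
    obtain ⟨t, rfl⟩ := hg x
    rw [hS, Qval _ (cW t v), show t * ψ v * t⁻¹ * (t * ψ v * t⁻¹) = t * (ψ v * ψ v) * t⁻¹ by group,
      εconj]
  have hBS : ∀ x v w, B (shift x v) (shift x w) = B v w := fun x v w => by
    obtain ⟨t, rfl⟩ := hg x
    rw [hS, hS, Bval _ (cW t v) _ (cW t w),
      show ⁅t * ψ v * t⁻¹, t * ψ w * t⁻¹⁆ = t * ⁅ψ v, ψ w⁆ * t⁻¹ by
        simp only [commutatorElement_def]; group, εconj]
  have hfix : ∀ v, ∀ x : DihedralGroup 4, x = .r 2 ∨ x = .sr 0 ∨ x = .sr 2 →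
      B v (shift x v) = 0 := by
    intro v x hx
    obtain ⟨t, rfl⟩ := hg x
    have htt : t * t ∈ W := by
      rw [← hker, MonoidHom.mem_ker, map_mul]
      rcases hx with h | h | h <;> rw [h] <;> decide
    rw [hS]
    nth_rewrite 1 [← hψ v]
    rw [Bval _ (hψW v) _ (cW t v)]
    refine if_pos (hgfix t hx _ (H.comm_mem (hψW _) (cW t _)) ?_)
    rw [show t * ⁅ψ v, t * ψ v * t⁻¹⁆ * t⁻¹ = ⁅t * ψ v * t⁻¹, t * t * ψ v * (t * t)⁻¹⁆ by
      simp only [commutatorElement_def]; group]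
    have h1 : φ (ψ v) = φ (t * t * ψ v * (t * t)⁻¹) := by
      rw [heq _ _ (hψW v)]
      have : g (t * t) = 1 := by rw [← MonoidHom.mem_ker, hker]; exact htt
      rw [this]; funext y; simp [shift]
    rw [← commutatorElement_inv,
      ccong _ (hψW v) _ (H.W_normal.conj_mem _ (hψW v) _) h1 _ (cW t v),
      inv_eq_iff_mul_eq_one, H.elem (H.comm_mem (hψW _) (cW t _))]
  have hone : ∀ v, B (fun _ => 1) v = 0 := by
    have hconst : ∀ x, φ z₀ x = φ z₀ 1 := fun x => by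
      obtain ⟨t, rfl⟩ := hg x
      have h1 := hadd z₀ hz0W _ (W.mul_mem (W.inv_mem hz0W) (H.W_normal.conj_mem _ hz0W t))
      rw [mul_inv_cancel_left, (h0 _ (H.Z3_le (conj_step hz0 t))).2 (conj_step hz0 t), add_zero,
        heq t _ hz0W] at h1
      simpa [shift] using congrFun h1 1
    have hne : φ z₀ 1 = 1 := by
      refine (by decide : ∀ a : ZMod 2, a ≠ 0 → a = 1) _ fun h => hz0' ((h0 _ hz0W).1 ?_)
      funext x; rw [hconst, h]; rfl
    intro v
    rw [show (fun _ => 1 : K8) = φ z₀ from funext fun x => by rw [hconst, hne], ← hψ v,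
      Bval _ hz0W _ (hψW v), show ⁅z₀, ψ v⁆ = 1 by
        rw [commutatorElement_eq_one_iff_mul_comm]; exact (hz0c _ (hψW v)).symm]
    simp [ε]
  let ρ : DihedralGroup 4 := .r 2
  let Φ : W →* Multiplicative (Fin 3 → ZMod 2) :=
    MonoidHom.mk' (fun w => Multiplicative.ofAdd fun i =>
      φ w 1 + φ w ρ + (φ w (![.r 1, .sr 0, .sr 1] i) + φ w (![.r 1, .sr 0, .sr 1] i * ρ)))
      fun a b => by
        rw [← ofAdd_add]
        congr 1
        funext i
        simp only [Subgroup.coe_mul, hadd _ a.2 _ b.2, Pi.add_apply]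
        ring
  let A := Φ.ker.map W.subtype
  have hAW : A ≤ W := Subgroup.map_subtype_le _
  have hcard : Nat.card W ≤ 8 * Nat.card A := by
    rw [Subgroup.card_map_of_injective W.subtype_injective, ← Subgroup.card_mul_index Φ.ker,
      Subgroup.index_ker, mul_comm]
    refine Nat.mul_le_mul_right _ ((Nat.card_le_card_of_injective _ Subtype.val_injective).trans ?_)
    rw [Nat.card_congr Multiplicative.toAdd, Nat.card_fun, Nat.card_zmod, Nat.card_fin]
    norm_num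
  have hsq : ∀ x ∈ A, x * x ∈ Zc 2 := by
    rintro _ ⟨a, ha, rfl⟩
    have h := fun i => congrFun (congrArg Multiplicative.toAdd (MonoidHom.mem_ker.1 ha)) i
    have hv : ∀ x : DihedralGroup 4, φ a x + φ a (x * ρ) = φ a 1 + φ a ρ := by
      have h' : ∀ i, φ a 1 + φ a ρ +
          (φ a (![.r 1, .sr 0, .sr 1] i) + φ a (![.r 1, .sr 0, .sr 1] i * ρ)) = 0 := h
      have r0 := CharTwo.add_eq_zero.1 (h' 0)
      have r1 := CharTwo.add_eq_zero.1 (h' 1)
      have r2 := CharTwo.add_eq_zero.1 (h' 2)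
      simp only [Matrix.cons_val_zero, Matrix.cons_val_one, Matrix.cons_val_two,
        Matrix.tail_cons, Matrix.head_cons] at r0 r1 r2
      have key : ∀ x : DihedralGroup 4, x ∈ [(1 : DihedralGroup 4), .r 1, .sr 0, .sr 1] ∨
          x * ρ ∈ [(1 : DihedralGroup 4), .r 1, .sr 0, .sr 1] := by decide
      have base : ∀ x ∈ [(1 : DihedralGroup 4), .r 1, .sr 0, .sr 1],
          φ a x + φ a (x * ρ) = φ a 1 + φ a ρ := by
        intro x hx
        fin_cases hx
        · rw [one_mul]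
        · exact r0.symm
        · exact r1.symm
        · exact r2.symm
      intro x
      rcases key x with hx | hx
      · exact base x hx
      · rw [← base _ hx, mul_assoc, show ρ * ρ = 1 by decide, mul_one, add_comm]
    have hq := form_vanish hQ hB hBc hQS hBS hfix hone hv
    rw [Qval _ a.2] at hq
    by_contra hcon
    simp [ε] at hq
    exact hcon hq
  obtain ⟨e, he, he'⟩ := H.exists_e (i := 2) (by omega)
  have h3A : Zc 3 ≤ A := fun x hx => ⟨⟨x, H.Z3_le hx⟩, MonoidHom.mem_ker.2 (by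
    apply Multiplicative.toAdd.injective
    funext i
    show φ x 1 + φ x ρ +
      (φ x (![.r 1, .sr 0, .sr 1] i) + φ x (![.r 1, .sr 0, .sr 1] i * ρ)) = 0
    simp [(h0 x (H.Z3_le hx)).2 hx]), rfl⟩
  exact H.no_sub hAW ((Z_le_succ 2).trans h3A) hsq (h3A he) he' (H.phi_eq ▸ he) hcard

end Hyp

end Cfsg.Agent.Lib.Inv59.RudT
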