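import Mathlib

/-!
# Sums of a cocycle over the orbits of subgroups of a 2-group
-/

set_option autoImplicit false
set_option linter.unusedSectionVars false
set_option linter.style.haveILetI false

namespace Cfsg.Agent.Lib.Inv59.RudT

universe u v

variable {P : Type u} [Group P] {Q : Type v} [MulAction P Q]

/-- The extension of a subgroup by an element normalizing it with square inside. -/
def extBy (H : Subgroup P) (w : P) (h1 : ∀ h ∈ H, w * h * w⁻¹ ∈ H) (h2 : ∀ h ∈ H, w⁻¹ * h * w ∈ H)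
    (hw : w * w ∈ H) : Subgroup P where
  carrier := {x | x ∈ H ∨ w⁻¹ * x ∈ H}
  one_mem' := Or.inl H.one_mem
  mul_mem' := by
    rintro a b (ha | ha) (hb | hb)
    · exact Or.inl (H.mul_mem ha hb)
    · exact Or.inr (by
        rw [show w⁻¹ * (a * b) = (w⁻¹ * a * w) * (w⁻¹ * b) by group]
        exact H.mul_mem (h2 a ha) hb)
    · exact Or.inr (by rw [← mul_assoc]; exact H.mul_mem ha hb)
    · exact Or.inl (by
        rw [show a * b = (w * w) * (w⁻¹ * (w⁻¹ * a) * w) * (w⁻¹ * b) by group]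
        exact H.mul_mem (H.mul_mem hw (h2 _ ha)) hb)
  inv_mem' := by
    rintro a (ha | ha)
    · exact Or.inl (H.inv_mem ha)
    · exact Or.inr (by
        rw [show w⁻¹ * a⁻¹ = (w * w)⁻¹ * (w * (w⁻¹ * a)⁻¹ * w⁻¹) by group]
        exact H.mul_mem (H.inv_mem hw) (h1 _ (H.inv_mem ha)))

variable [Fintype Q]

open Classical in
/-- The orbit of a point under a subgroup, as a finset. -/
noncomputable def orb (H : Subgroup P) (q : Q) : Finset Q :=
  Finset.univ.filter fun r => ∃ h ∈ H, h • q = r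

theorem mem_orb {H : Subgroup P} {q r : Q} : r ∈ orb H q ↔ ∃ h ∈ H, h • q = r := by
  classical
  simp [orb]

/-- The sum of `c · r` over an orbit. -/
noncomputable def osum (c : P → Q → ZMod 2) (H : Subgroup P) (q : Q) (y : P) : ZMod 2 :=
  ∑ r ∈ orb H q, c y r

variable {c : P → Q → ZMod 2} (hc : ∀ s t q, c (s * t) q = c s (t • q) + c t q)

theorem sum_smul_orb {β : Type*} [AddCommMonoid β] {H : Subgroup P} {y : P} (hy : y ∈ H) (q : Q)
    (f : Q → β) : ∑ r ∈ orb H q, f (y • r) = ∑ r ∈ orb H q, f r := by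
  classical
  refine Finset.sum_bij' (fun r _ => y • r) (fun r _ => y⁻¹ • r) ?_ ?_ (fun r _ => inv_smul_smul _ _)
    (fun r _ => smul_inv_smul _ _) (fun r _ => rfl)
  · intro r hr
    obtain ⟨h, hh, rfl⟩ := mem_orb.1 hr
    exact mem_orb.2 ⟨y * h, H.mul_mem hy hh, mul_smul _ _ _⟩
  · intro r hr
    obtain ⟨h, hh, rfl⟩ := mem_orb.1 hr
    exact mem_orb.2 ⟨y⁻¹ * h, H.mul_mem (H.inv_mem hy) hh, mul_smul _ _ _⟩

include hc

theorem osum_mul {H : Subgroup P} (q : Q) (a : P) {b : P} (hb : b ∈ H) :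
    osum c H q (a * b) = osum c H q a + osum c H q b := by
  simp only [osum, hc, Finset.sum_add_distrib]
  rw [sum_smul_orb hb q (c a)]

theorem osum_one (H : Subgroup P) (q : Q) : osum c H q 1 = 0 := by
  have h := osum_mul hc q (1 : P) (H.one_mem)
  rw [one_mul, CharTwo.add_self_eq_zero] at h
  exact h

theorem osum_inv {H : Subgroup P} (q : Q) {a : P} (ha : a ∈ H) :
    osum c H q a⁻¹ = osum c H q a := by
  have h := osum_mul hc q a⁻¹ ha
  rw [inv_mul_cancel, osum_one hc] at h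
  exact CharTwo.add_eq_zero.1 h.symm

theorem osum_stab {R : Subgroup P} {q : Q} (hR : ∀ h ∈ R, h • q = q) (y : P) :
    osum c R q y = c y q := by
  have h : orb R q = {q} := by
    ext r
    rw [mem_orb, Finset.mem_singleton]
    exact ⟨fun ⟨h, hh, e⟩ => e ▸ hR h hh, fun e => ⟨1, R.one_mem, e ▸ one_smul _ _⟩⟩
  simp [osum, h]

variable {H : Subgroup P} {w : P} (h1 : ∀ h ∈ H, w * h * w⁻¹ ∈ H) (h2 : ∀ h ∈ H, w⁻¹ * h * w ∈ H)
  (hw : w * w ∈ H) (hwH : w ∉ H) {q : Q} (hstab : ∀ h : P, h • q = q → h ∈ H)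

include hwH hstab

theorem osum_ext_split (y : P) :
    osum c (extBy H w h1 h2 hw) q y = osum c H q y + ∑ r ∈ orb H q, c y (w • r) := by
  classical
  let e : Q ↪ Q := ⟨fun r => w • r, MulAction.injective w⟩
  have hdis : Disjoint (orb H q) ((orb H q).map e) := by
    rw [Finset.disjoint_left]
    intro r hr hr'
    obtain ⟨h, hh, rfl⟩ := mem_orb.1 hr
    obtain ⟨r', hr', he⟩ := Finset.mem_map.1 hr'
    obtain ⟨h', hh', rfl⟩ := mem_orb.1 hr'
    have : (h⁻¹ * (w * h')) • q = q := by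
      rw [mul_smul, mul_smul]
      show h⁻¹ • e (h' • q) = q
      rw [he, inv_smul_smul]
    have h3 := H.mul_mem hh (hstab _ this)
    rw [mul_inv_cancel_left] at h3
    exact hwH (by simpa using H.mul_mem h3 (H.inv_mem hh'))
  have hu : orb (extBy H w h1 h2 hw) q = (orb H q).disjUnion ((orb H q).map e) hdis := by
    ext r
    rw [mem_orb, Finset.mem_disjUnion, Finset.mem_map]
    constructor
    · rintro ⟨h, hh | hh, rfl⟩
      · exact Or.inl (mem_orb.2 ⟨h, hh, rfl⟩)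
      · refine Or.inr ⟨(w⁻¹ * h) • q, mem_orb.2 ⟨_, hh, rfl⟩, ?_⟩
        show w • (w⁻¹ * h) • q = h • q
        rw [← mul_smul, mul_inv_cancel_left]
    · rintro (hr | ⟨r', hr', rfl⟩)
      · obtain ⟨h, hh, rfl⟩ := mem_orb.1 hr
        exact ⟨h, Or.inl hh, rfl⟩
      · obtain ⟨h, hh, rfl⟩ := mem_orb.1 hr'
        exact ⟨w * h, Or.inr (by rwa [inv_mul_cancel_left]), mul_smul _ _ _⟩
  rw [osum, hu, Finset.sum_disjUnion, Finset.sum_map]
  rfl

theorem osum_ext_mem {y : P} (hy : y ∈ H) :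
    osum c (extBy H w h1 h2 hw) q y = osum c H q y + osum c H q (w⁻¹ * y * w) := by
  rw [osum_ext_split hc h1 h2 hw hwH hstab]
  congr 1
  have e : ∀ r, c y (w • r) = c w ((w⁻¹ * y * w) • r) + c (w⁻¹ * y * w) r - c w r := by
    intro r
    rw [← hc, eq_sub_iff_add_eq, ← hc, show w * (w⁻¹ * y * w) = y * w by group]
  simp only [e, Finset.sum_sub_distrib, Finset.sum_add_distrib]
  rw [sum_smul_orb (h2 y hy) q (c w)]
  unfold osum
  abel

theorem osum_ext_self : osum c (extBy H w h1 h2 hw) q w = osum c H q (w * w) := by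
  rw [osum_ext_split hc h1 h2 hw hwH hstab]
  simp only [osum, hc, Finset.sum_add_distrib]
  exact add_comm _ _

/-- Vanishing on all elements of a set inside the extension. -/
theorem osum_ext_zero {Y : Subgroup P} (hwY : w ∈ Y)
    (h0 : ∀ y ∈ Y, y ∈ H → osum c H q y + osum c H q (w⁻¹ * y * w) = 0)
    (hsq : osum c H q (w * w) = 0) :
    ∀ y ∈ Y, y ∈ extBy H w h1 h2 hw → osum c (extBy H w h1 h2 hw) q y = 0 := by
  rintro y hyY (hy | hy)
  · rw [osum_ext_mem hc h1 h2 hw hwH hstab hy]; exact h0 y hyY hy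
  · have h := osum_mul (H := extBy H w h1 h2 hw) hc q w (Or.inl hy : w⁻¹ * y ∈ extBy H w h1 h2 hw)
    rw [mul_inv_cancel_left, osum_ext_self hc h1 h2 hw hwH hstab,
      osum_ext_mem hc h1 h2 hw hwH hstab hy, hsq,
      h0 _ (Y.mul_mem (Y.inv_mem hwY) hyY) hy, add_zero] at h
    exact h

omit hc hwH hstab

theorem card_ext_le [Finite P] (W : Subgroup P) (hwW : w ∈ W) :
    Nat.card ↥(W ⊓ extBy H w h1 h2 hw) ≤ 2 * Nat.card ↥(W ⊓ H) := by
  have hsub : ((W ⊓ extBy H w h1 h2 hw : Subgroup P) : Set P) ⊆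
      ((W ⊓ H : Subgroup P) : Set P) ∪ (fun v => w * v) '' ((W ⊓ H : Subgroup P) : Set P) := by
    rintro x ⟨hxW, hx | hx⟩
    · exact Or.inl ⟨hxW, hx⟩
    · exact Or.inr ⟨w⁻¹ * x, ⟨W.mul_mem (W.inv_mem hwW) hxW, hx⟩, mul_inv_cancel_left _ _⟩
  have h := (Set.ncard_le_ncard hsub (Set.toFinite _)).trans (Set.ncard_union_le _ _)
  rw [Set.ncard_image_of_injective _ (mul_right_injective w)] at h
  show Nat.card ((W ⊓ extBy H w h1 h2 hw : Subgroup P) : Set P) ≤
    2 * Nat.card ((W ⊓ H : Subgroup P) : Set P)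
  rw [Nat.card_coe_set_eq, Nat.card_coe_set_eq]
  omega

/-- A step inside a normal subgroup not contained in `H`. -/
theorem exists_ext [Finite P] (hP : IsPGroup 2 P) (H Y : Subgroup P) [hY : Y.Normal] (hle : ¬ Y ≤ H) :
    ∃ w ∈ Y, w ∉ H ∧ w * w ∈ H ∧ (∀ h ∈ H, w * h * w⁻¹ ∈ H) ∧ (∀ h ∈ H, w⁻¹ * h * w ∈ H) := by
  haveI := Fact.mk Nat.prime_two
  let K := H ⊔ Y
  haveI : Group.IsNilpotent ↥K := (hP.to_subgroup K).isNilpotent
  have hne : H.subgroupOf K < ⊤ := by
    rw [lt_top_iff_ne_top]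
    intro e
    rw [Subgroup.subgroupOf_eq_top] at e
    exact hle (le_sup_right.trans e)
  obtain ⟨x, hx, hxH⟩ := SetLike.exists_of_lt
    (Group.normalizerCondition_of_isNilpotent (G := ↥K) (H.subgroupOf K) hne)
  rw [Subgroup.mem_normalizer_iff] at hx
  have hnx : ∀ v, v ∈ H ↔ (x : P) * v * (x : P)⁻¹ ∈ H := by
    intro v
    constructor
    · intro hv
      exact (hx ⟨v, Subgroup.mem_sup_left hv⟩).1 hv
    · intro hv
      have hvK : v ∈ K := by
        have h := K.mul_mem (K.mul_mem (K.inv_mem x.2) (Subgroup.mem_sup_left (T := Y) hv)) x.2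
        simpa [mul_assoc] using h
      exact (hx ⟨v, hvK⟩).2 hv
  obtain ⟨h, hh, y, hy, e⟩ : ∃ h ∈ H, ∃ y ∈ Y, h * y = (x : P) := by
    have := x.2
    rw [← SetLike.mem_coe, Subgroup.mul_normal] at this
    exact this
  have hyH : y ∉ H := fun hy' => hxH (by
    rw [Subgroup.mem_subgroupOf, ← e]
    exact H.mul_mem hh hy')
  have hny : ∀ v, v ∈ H ↔ y * v * y⁻¹ ∈ H := by
    intro v
    rw [hnx v, ← e]
    constructor
    · intro hv
      have := H.mul_mem (H.mul_mem (H.inv_mem hh) hv) hh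
      simpa [mul_assoc] using this
    · intro hv
      have := H.mul_mem (H.mul_mem hh hv) (H.inv_mem hh)
      simpa [mul_assoc] using this
  obtain ⟨k, hk⟩ := hP y
  classical
  have hex : ∃ k, y ^ 2 ^ k ∈ H := ⟨k, by rw [hk]; exact H.one_mem⟩
  obtain ⟨j, hj⟩ : ∃ j, Nat.find hex = j + 1 := by
    refine Nat.exists_eq_add_one_of_ne_zero fun h0 => hyH ?_
    simpa [h0] using Nat.find_spec hex
  have hwn : y ^ 2 ^ j ∈ Subgroup.normalizer (H : Set P) :=
    Subgroup.pow_mem _ (Subgroup.mem_normalizer_iff.2 hny) _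
  rw [Subgroup.mem_normalizer_iff] at hwn
  refine ⟨y ^ 2 ^ j, Y.pow_mem hy _, Nat.find_min hex (by omega), ?_, fun v hv => (hwn v).1 hv, fun v hv => ?_⟩
  · rw [← pow_add, ← two_mul, ← pow_succ', ← hj]
    exact Nat.find_spec hex
  · refine (hwn _).2 ?_
    simpa [mul_assoc] using hv

/-- A vanishing orbit sum stays zero up to the whole group. -/
theorem osum_top_zero [Finite P] (hP : IsPGroup 2 P) {c : P → Q → ZMod 2}
    (hc : ∀ s t q, c (s * t) q = c s (t • q) + c t q) {q : Q} :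
    ∀ {H : Subgroup P}, (∀ h : P, h • q = q → h ∈ H) → (∀ y ∈ H, osum c H q y = 0) →
      ∀ y, osum c (⊤ : Subgroup P) q y = 0 := by
  intro H
  induction H using WellFoundedGT.induction with
  | ind H ih =>
    intro hstab h0 y
    by_cases hle : (⊤ : Subgroup P) ≤ H
    · rw [← top_le_iff.1 hle]
      exact h0 y (hle (Subgroup.mem_top y))
    obtain ⟨w, -, hwH, hw, h1, h2⟩ := exists_ext hP H ⊤ hle
    refine ih (extBy H w h1 h2 hw) ?_ (fun h hh => Or.inl (hstab h hh)) ?_ y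
    · exact SetLike.lt_iff_le_and_exists.2
        ⟨fun h hh => Or.inl hh, w, Or.inr (by simp [H.one_mem]), hwH⟩
    · intro z hz
      refine osum_ext_zero hc h1 h2 hw hwH hstab (Y := ⊤) (Subgroup.mem_top w) ?_ (h0 _ hw) z
        (Subgroup.mem_top z) hz
      intro v _ hv
      rw [h0 _ hv, h0 _ (h2 v hv), add_zero]

end Cfsg.Agent.Lib.Inv59.RudT
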