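import Mathlib
import Cfsg.Agent.Lib.Inv59.RudT.Main
import Cfsg.Agent.Lib.Inv59.RudT.GLThree
import Cfsg.Agent.Lib.Coprime.Glauberman
import Cfsg.Agent.Lib.LargeExtra.Basic

/-!
# Odd groups of linear maps normalized by the translations of the dihedral group of order eight
-/

set_option autoImplicit false
set_option linter.unusedSectionVars false
set_option linter.style.haveILetI false

namespace Cfsg.Agent.Lib.Inv59.RudT

universe u

open DihedralGroup

/-- The invertible linear maps of the functions on `D₈`. -/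
abbrev Vg : Type := (K8 →ₗ[ZMod 2] K8)ˣ

/-- Translation as a linear map. -/
def shiftLin (g : DihedralGroup 4) : K8 →ₗ[ZMod 2] K8 where
  toFun := shift g
  map_add' := fun _ _ => rfl
  map_smul' := fun _ _ => rfl

theorem shift_shift (a b : DihedralGroup 4) (v : K8) : shift a (shift b v) = shift (a * b) v := by
  funext x; simp [shift, mul_assoc]

/-- Translations as a homomorphism. -/
def shiftU : DihedralGroup 4 →* Vg :=
  MonoidHom.toHomUnits
    { toFun := shiftLin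
      map_one' := LinearMap.ext fun v => funext fun x => by show v (x * 1) = v x; rw [mul_one]
      map_mul' := fun a b => LinearMap.ext fun v => (shift_shift a b v).symm }

theorem shiftU_apply (g : DihedralGroup 4) (v : K8) : (shiftU g : K8 →ₗ[ZMod 2] K8) v = shift g v :=
  rfl

theorem Vg_mul_apply (a b : Vg) (v : K8) :
    ((a * b : Vg) : K8 →ₗ[ZMod 2] K8) v = (a : K8 →ₗ[ZMod 2] K8) ((b : K8 →ₗ[ZMod 2] K8) v) := rfl

theorem Vg_comm_shift {γ : Vg} {g : DihedralGroup 4} (h : Commute γ (shiftU g)) (v : K8) :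
    (γ : K8 →ₗ[ZMod 2] K8) (shift g v) = shift g ((γ : K8 →ₗ[ZMod 2] K8) v) := by
  rw [← shiftU_apply, ← Vg_mul_apply, h.eq]
  rfl

theorem Vg_pow_apply (a : Vg) (k : ℕ) (v : K8) :
    ((a ^ k : Vg) : K8 →ₗ[ZMod 2] K8) v = (⇑(a : K8 →ₗ[ZMod 2] K8))^[k] v := by
  induction k with
  | zero => rfl
  | succ k ih => rw [pow_succ', Vg_mul_apply, ih, Function.iterate_succ_apply']

/-- A map of odd order commuting with translations by `H` is trivial once it is so on the fixed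
functions. -/
theorem residual (H : Subgroup (DihedralGroup 4)) (γ : Vg) (hγ : Odd (orderOf γ))
    (hcomm : ∀ h ∈ H, Commute γ (shiftU h))
    (hfix : ∀ v : K8, (∀ h ∈ H, shift h v = v) → (γ : K8 →ₗ[ZMod 2] K8) v = v) : γ = 1 := by
  let E : AddSubgroup K8 :=
    { carrier := {v | (γ : K8 →ₗ[ZMod 2] K8) v = v}
      zero_mem' := map_zero _
      add_mem' := fun {a b} ha hb => (map_add _ a b).trans (congrArg₂ (· + ·) ha hb)
      neg_mem' := fun {a} ha => (map_neg _ a).trans (congrArg Neg.neg ha) }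
  have hstep : ∀ v, (∀ h ∈ H, shift h v + v ∈ E) → v ∈ E := by
    intro v hv
    set w := (γ : K8 →ₗ[ZMod 2] K8) v + v with hw
    have hwfix : (γ : K8 →ₗ[ZMod 2] K8) w = w := by
      refine hfix w fun h hh => ?_
      have e : (γ : K8 →ₗ[ZMod 2] K8) (shift h v + v) = shift h v + v := hv h hh
      rw [map_add, Vg_comm_shift (hcomm h hh)] at e
      have hadd : shift h w = shift h ((γ : K8 →ₗ[ZMod 2] K8) v) + shift h v := rfl
      have e' : shift h ((γ : K8 →ₗ[ZMod 2] K8) v) = shift h v + v + (γ : K8 →ₗ[ZMod 2] K8) v := by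
        rw [← e, add_assoc, show (γ : K8 →ₗ[ZMod 2] K8) v + (γ : K8 →ₗ[ZMod 2] K8) v = 0 from
          funext fun _ => CharTwo.add_self_eq_zero _, add_zero]
      rw [hadd, e', hw, show shift h v + v + (γ : K8 →ₗ[ZMod 2] K8) v + shift h v =
        ((γ : K8 →ₗ[ZMod 2] K8) v + v) + (shift h v + shift h v) by abel,
        show shift h v + shift h v = 0 from funext fun _ => CharTwo.add_self_eq_zero _, add_zero]
    rw [hw, map_add, add_comm] at hwfix
    have h2 : (γ : K8 →ₗ[ZMod 2] K8) ((γ : K8 →ₗ[ZMod 2] K8) v) = v := by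
      rw [add_comm ((γ : K8 →ₗ[ZMod 2] K8) v) v] at hwfix
      exact add_right_cancel ((add_comm _ _).trans hwfix)
    have heven : ∀ j, ((γ ^ (2 * j) : Vg) : K8 →ₗ[ZMod 2] K8) v = v := by
      intro j
      induction j with
      | zero => rfl
      | succ j ih =>
        rw [mul_add, mul_one, pow_add, Vg_mul_apply, pow_two, Vg_mul_apply, h2, ih]
    obtain ⟨j, hj⟩ := hγ
    have h := heven j
    have h1 : ((γ ^ (2 * j + 1) : Vg) : K8 →ₗ[ZMod 2] K8) v = v := by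
      rw [← hj, pow_orderOf_eq_one]; rfl
    rw [pow_succ', Vg_mul_apply, h] at h1
    exact h1
  suffices hE : E = ⊤ by
    refine Units.ext (LinearMap.ext fun v => ?_)
    have : v ∈ E := hE ▸ AddSubgroup.mem_top v
    exact this
  by_contra hne
  have hsh : ∀ h : H, E ≤ E.comap (shiftLin (h : DihedralGroup 4)).toAddMonoidHom := by
    intro h v hv
    show (γ : K8 →ₗ[ZMod 2] K8) (shift h v) = shift h v
    rw [Vg_comm_shift (hcomm h h.2)]
    exact congrArg (shift (h : DihedralGroup 4)) hv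
  let act : H → K8 ⧸ E → K8 ⧸ E := fun h => QuotientAddGroup.map E E _ (hsh h)
  have hact : ∀ (h : H) (v : K8), act h (QuotientAddGroup.mk v) =
      QuotientAddGroup.mk (shift (h : DihedralGroup 4) v) := fun h v => rfl
  letI : MulAction H (K8 ⧸ E) :=
    { smul := act
      one_smul := fun q => by
        induction q using QuotientAddGroup.induction_on with
        | _ v =>
        show act 1 _ = _
        rw [hact]
        congr 1
        funext x
        simp [shift]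
      mul_smul := fun a b q => by
        induction q using QuotientAddGroup.induction_on with
        | _ v =>
        show act (a * b) _ = act a (act b _)
        rw [hact, hact, hact, shift_shift]
        rfl }
  haveI := Fact.mk Nat.prime_two
  have hp : IsPGroup 2 H := by
    refine IsPGroup.to_subgroup ?_ H
    exact IsPGroup.of_card (n := 3) (by rw [Nat.card_eq_fintype_card, DihedralGroup.card]; norm_num)
  have hdvd : 2 ∣ Nat.card (K8 ⧸ E) := by
    have h := AddSubgroup.card_mul_index E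
    rw [Nat.card_fun, Nat.card_zmod, Nat.card_eq_fintype_card (α := DihedralGroup 4),
      DihedralGroup.card] at h
    obtain ⟨k, -, hk⟩ := (Nat.dvd_prime_pow Nat.prime_two).1 (Dvd.intro_left _ h)
    have hk0 : k ≠ 0 := fun h0 => hne (AddSubgroup.index_eq_one.1 (by rw [hk, h0, pow_zero]))
    show 2 ∣ E.index
    rw [hk]
    exact dvd_pow_self 2 hk0
  obtain ⟨q, hq, hq0⟩ := hp.exists_fixed_point_of_prime_dvd_card_of_fixed_point (α := K8 ⧸ E) hdvd
    (a := 0) (fun h => map_zero (QuotientAddGroup.map E E _ (hsh h)))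
  obtain ⟨v, rfl⟩ := QuotientAddGroup.mk_surjective q
  apply hq0
  refine ((QuotientAddGroup.eq_zero_iff v).2 (hstep v fun h hh => ?_)).symm
  have h1 : act ⟨h, hh⟩ (QuotientAddGroup.mk v) = QuotientAddGroup.mk v := hq ⟨h, hh⟩
  rw [hact, QuotientAddGroup.eq] at h1
  rwa [show -shift h v = shift h v from funext fun x => CharTwo.neg_eq _] at h1

/-- Four-subgroups of `D₈`. -/
def fourA : Subgroup (DihedralGroup 4) where
  carrier := {x | x = 1 ∨ x = r 2 ∨ x = sr 0 ∨ x = sr 2}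
  one_mem' := Or.inl rfl
  mul_mem' := by rintro a b (rfl | rfl | rfl | rfl) (rfl | rfl | rfl | rfl) <;> decide
  inv_mem' := by rintro a (rfl | rfl | rfl | rfl) <;> decide

/-- The other four-subgroup. -/
def fourB : Subgroup (DihedralGroup 4) where
  carrier := {x | x = 1 ∨ x = r 2 ∨ x = sr 1 ∨ x = sr 3}
  one_mem' := Or.inl rfl
  mul_mem' := by rintro a b (rfl | rfl | rfl | rfl) (rfl | rfl | rfl | rfl) <;> decide
  inv_mem' := by rintro a (rfl | rfl | rfl | rfl) <;> decide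

/-- The cyclic subgroup of order four. -/
def fourC : Subgroup (DihedralGroup 4) where
  carrier := {x | x = 1 ∨ x = r 1 ∨ x = r 2 ∨ x = r 3}
  one_mem' := Or.inl rfl
  mul_mem' := by rintro a b (rfl | rfl | rfl | rfl) (rfl | rfl | rfl | rfl) <;> decide
  inv_mem' := by rintro a (rfl | rfl | rfl | rfl) <;> decide

theorem fourA_cov : ∀ x, x ∈ fourA ∨ (r 1)⁻¹ * x ∈ fourA :=
  (by decide : ∀ x : DihedralGroup 4, (x = 1 ∨ x = r 2 ∨ x = sr 0 ∨ x = sr 2) ∨
    ((r 1)⁻¹ * x = 1 ∨ (r 1)⁻¹ * x = r 2 ∨ (r 1)⁻¹ * x = sr 0 ∨ (r 1)⁻¹ * x = sr 2))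

theorem fourB_cov : ∀ x, x ∈ fourB ∨ (r 1)⁻¹ * x ∈ fourB :=
  (by decide : ∀ x : DihedralGroup 4, (x = 1 ∨ x = r 2 ∨ x = sr 1 ∨ x = sr 3) ∨
    ((r 1)⁻¹ * x = 1 ∨ (r 1)⁻¹ * x = r 2 ∨ (r 1)⁻¹ * x = sr 1 ∨ (r 1)⁻¹ * x = sr 3))

theorem fourC_cov : ∀ x, x ∈ fourC ∨ (sr 0)⁻¹ * x ∈ fourC :=
  (by decide : ∀ x : DihedralGroup 4, (x = 1 ∨ x = r 1 ∨ x = r 2 ∨ x = r 3) ∨
    ((sr 0)⁻¹ * x = 1 ∨ (sr 0)⁻¹ * x = r 1 ∨ (sr 0)⁻¹ * x = r 2 ∨ (sr 0)⁻¹ * x = r 3))

theorem dihedral_pow_four : ∀ g : DihedralGroup 4, g ^ 4 = 1 := by decide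

theorem residual_top (γ : Vg) (hγ : Odd (orderOf γ)) (hcomm : ∀ g, Commute γ (shiftU g)) : γ = 1 := by
  refine residual ⊤ γ hγ (fun h _ => hcomm h) fun v hv => ?_
  have hconst : ∀ x, v x = v 1 := fun x => by
    have h : shift x v 1 = v 1 := congrFun (hv x (Subgroup.mem_top x)) 1
    simpa [shift] using h
  rcases (by decide : ∀ a : ZMod 2, a = 0 ∨ a = 1) (v 1) with h | h
  · rw [show v = 0 from funext fun x => (hconst x).trans h, map_zero]
  · have hv1 : v = fun _ => 1 := funext fun x => (hconst x).trans h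
    set w := (γ : K8 →ₗ[ZMod 2] K8) v with hw
    have hwc : ∀ x, w x = w 1 := fun x => by
      have h2 : shift x w 1 = w 1 := by
        rw [hw, ← Vg_comm_shift (hcomm x), hv x (Subgroup.mem_top x)]
      simpa [shift] using h2
    rcases (by decide : ∀ a : ZMod 2, a = 0 ∨ a = 1) (w 1) with h' | h'
    · exfalso
      have hw0 : (γ : K8 →ₗ[ZMod 2] K8) v = 0 := funext fun x => (hwc x).trans h'
      have hv0 : v = 0 := by
        have h3 : ((γ⁻¹ * γ : Vg) : K8 →ₗ[ZMod 2] K8) v = 0 := by rw [Vg_mul_apply, hw0, map_zero]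
        rwa [inv_mul_cancel] at h3
      exact one_ne_zero (α := ZMod 2) (congrFun (hv1.symm.trans hv0) 1)
    · rw [hv1]; exact funext fun x => (hwc x).trans h'

theorem residual_four (H : Subgroup (DihedralGroup 4)) (b : DihedralGroup 4)
    (hcov : ∀ x : DihedralGroup 4, x ∈ H ∨ b⁻¹ * x ∈ H)
    (γ : Vg) (hγ : Odd (orderOf γ)) (hcomm : ∀ h ∈ H, Commute γ (shiftU h)) : γ ^ 3 = 1 := by
  refine residual H (γ ^ 3) (hγ.of_dvd_nat (orderOf_pow_dvd 3))
    (fun h hh => (hcomm h hh).pow_left 3) fun v hv => ?_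
  let F : Set K8 := {w | ∀ h ∈ H, shift h w = w}
  have hval : ∀ w ∈ F, ∀ x, w x = w 1 ∨ w x = w b := by
    intro w hw x
    rcases hcov x with hx | hx
    · left
      have := congrFun (hw x hx) 1
      simpa [shift] using this
    · right
      have := congrFun (hw _ hx) b
      simpa [shift] using this
  have hinj : Set.InjOn (fun w : K8 => (w 1, w b)) F := by
    intro w₁ h1 w₂ h2 e
    simp only [Prod.mk.injEq] at e
    funext x
    rcases hcov x with hx | hx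
    · have a1 := congrFun (h1 x hx) 1
      have a2 := congrFun (h2 x hx) 1
      simp only [shift, one_mul] at a1 a2
      rw [a1, a2, e.1]
    · have a1 := congrFun (h1 _ hx) b
      have a2 := congrFun (h2 _ hx) b
      simp only [shift, mul_inv_cancel_left] at a1 a2
      rw [a1, a2, e.2]
  have hF4 : F.ncard ≤ 4 := by
    rw [← hinj.ncard_image]
    refine (Set.ncard_le_ncard (Set.subset_univ _) (Set.toFinite _)).trans ?_
    rw [Set.ncard_univ, Nat.card_prod, Nat.card_zmod]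
  set f : K8 → K8 := ⇑(γ : K8 →ₗ[ZMod 2] K8) with hf
  have hfF : ∀ w ∈ F, f w ∈ F := fun w hw h hh => by
    rw [hf, ← Vg_comm_shift (hcomm h hh), hw h hh]
  rw [Vg_pow_apply]
  show f^[3] v = v
  by_cases hv0 : v = 0
  · subst hv0
    exact Function.iterate_fixed (map_zero _) 3
  have hper : Function.IsPeriodicPt f (orderOf γ) v := by
    show f^[orderOf γ] v = v
    rw [hf, ← Vg_pow_apply, pow_orderOf_eq_one]
    rfl
  set r := Function.minimalPeriod f v with hr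
  have hrd : r ∣ orderOf γ := hper.minimalPeriod_dvd
  have hr3 : r ≤ 3 := by
    have hsub : (fun i => f^[i] v) '' Set.Iio r ⊆ F \ {0} := by
      rintro _ ⟨i, -, rfl⟩
      have hmem : ∀ j, f^[j] v ∈ F := fun j => by
        induction j with
        | zero => exact hv
        | succ j ih => rw [Function.iterate_succ_apply']; exact hfF _ ih
      refine ⟨hmem i, fun h0 => hv0 ?_⟩
      rw [Set.mem_singleton_iff] at h0
      have : ((γ ^ i : Vg) : K8 →ₗ[ZMod 2] K8) v = 0 := by rw [Vg_pow_apply]; exact h0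
      have h3 : (((γ ^ i)⁻¹ * γ ^ i : Vg) : K8 →ₗ[ZMod 2] K8) v = 0 := by
        rw [Vg_mul_apply, this, map_zero]
      rwa [inv_mul_cancel] at h3
    have hinj' : Set.InjOn (fun i => f^[i] v) (Set.Iio r) :=
      Function.iterate_injOn_Iio_minimalPeriod
    have h := Set.ncard_le_ncard hsub (Set.toFinite _)
    rw [hinj'.ncard_image, Set.ncard_sdiff_singleton_of_mem
      (show (0 : K8) ∈ F from fun h _ => rfl), ← Finset.coe_Iio, Set.ncard_coe_finset, Nat.card_Iio] at h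
    omega
  have hodd : Odd r := hγ.of_dvd_nat hrd
  obtain ⟨j, hj⟩ := hodd
  have hdvd3 : r ∣ 3 := by
    have : r = 1 ∨ r = 3 := by omega
    rcases this with h | h <;> rw [h]
    exact one_dvd _
  obtain ⟨i, hi⟩ := hdvd3
  have : Function.IsPeriodicPt f (r * i) v := (Function.isPeriodicPt_minimalPeriod f v).mul_const i
  rw [← hi] at this
  exact this

section Centralize

variable {N : Type u} [Group N] [Finite N] (θ : N →* G32) (ρ : N →* Vg) {S : Subgroup N}
  (gS : ↥S →* DihedralGroup 4)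

theorem card_Vg : ¬ 3 ^ 6 ∣ Nat.card Vg := by
  haveI := Fact.mk Nat.prime_two
  let e : Vg ≃* GL (Fin 8) (ZMod 2) :=
    (LinearMap.GeneralLinearGroup.congrLinearEquiv (LinearEquiv.funCongrLeft (ZMod 2) (ZMod 2)
      (((Finite.equivFin (DihedralGroup 4)).trans
        (finCongr (by rw [Nat.card_eq_fintype_card, DihedralGroup.card]))).symm :
          Fin 8 ≃ DihedralGroup 4))).trans Matrix.GeneralLinearGroup.toLin.symm
  rw [Nat.card_congr e.toEquiv, Matrix.card_GL_field, ZMod.card]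
  simp only [Fin.prod_univ_eight, Fin.isValue]
  norm_num

theorem conj_zero_of_three {k : Vg} {p : ℕ} (hp : p.Prime) (hp3 : p ≠ 3) {j : ℕ}
    (hk : k ^ p ^ j = 1) (h3 : k ^ 3 = 1) : k = 1 := by
  rw [← orderOf_eq_one_iff]
  refine Nat.dvd_one.1 ?_
  have hc : Nat.Coprime (p ^ j) 3 :=
    Nat.Coprime.pow_left j ((Nat.coprime_primes hp Nat.prime_three).2 hp3)
  rw [← hc.gcd_eq_one]
  exact Nat.dvd_gcd (orderOf_dvd_of_pow_eq_one hk) (orderOf_dvd_of_pow_eq_one h3)

/-- The image of the kernel is trivial. -/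
theorem centralizes (hθ : Function.Surjective θ) (hgS : Function.Surjective gS)
    (hρS : ∀ s : ↥S, ρ s = shiftU (gS s)) (hθS : ∀ s : ↥S, θ s = 1 ↔ gS s = 1)
    (hodd : Odd (Nat.card (θ.ker.map ρ))) : ∀ a ∈ θ.ker, ρ a = 1 := by
  classical
  set Γ := θ.ker.map ρ with hΓdef
  haveI : Finite ↥Γ := Finite.of_surjective
    (fun a : θ.ker => (⟨ρ a, Subgroup.mem_map_of_mem ρ a.2⟩ : ↥Γ))
    (by rintro ⟨_, a, ha, rfl⟩; exact ⟨⟨a, ha⟩, rfl⟩)
  haveI : Finite Vg := Finite.of_injective (fun a : Vg => ((a : K8 →ₗ[ZMod 2] K8) : K8 → K8))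
    fun a b h => Units.ext (LinearMap.ext (congrFun h))
  have hΓord : ∀ γ ∈ Γ, Odd (orderOf γ) := fun γ hγ =>
    hodd.of_dvd_nat (Subgroup.orderOf_dvd_natCard Γ hγ)
  have hnorm : ∀ n : N, ∀ γ ∈ Γ, ρ n * γ * (ρ n)⁻¹ ∈ Γ := by
    rintro n _ ⟨a, ha, rfl⟩
    exact ⟨n * a * n⁻¹, (inferInstance : θ.ker.Normal).conj_mem a ha n, by simp⟩
  have hsh : ∀ g : DihedralGroup 4, ∃ s : ↥S, ρ s = shiftU g ∧ gS s = g := fun g => by
    obtain ⟨s, hs⟩ := hgS g
    exact ⟨s, by rw [hρS, hs], hs⟩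
  have hnormsh : ∀ g, ∀ γ ∈ Γ, shiftU g * γ * (shiftU g)⁻¹ ∈ Γ := fun g γ hγ => by
    obtain ⟨s, hs, -⟩ := hsh g
    exact hs ▸ hnorm s γ hγ
  have hshle : ∀ K : Subgroup Vg, (∀ g, ∀ k ∈ K, shiftU g * k * (shiftU g)⁻¹ ∈ K) →
      shiftU.range ≤ Subgroup.normalizer (K : Set Vg) := by
    rintro K hK _ ⟨g, rfl⟩
    rw [Subgroup.mem_normalizer_iff]
    intro k
    refine ⟨hK g k, fun h => ?_⟩
    have := hK g⁻¹ _ h
    simpa [mul_assoc, map_inv] using this
  have hA4 : ∀ γ ∈ Γ, (∀ h ∈ fourA, Commute γ (shiftU h)) → γ ^ 3 = 1 := fun γ hγ h =>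
    residual_four fourA (r 1) fourA_cov γ (hΓord γ hγ) h
  have hB4 : ∀ γ ∈ Γ, (∀ h ∈ fourB, Commute γ (shiftU h)) → γ ^ 3 = 1 := fun γ hγ h =>
    residual_four fourB (r 1) fourB_cov γ (hΓord γ hγ) h
  have hC4 : ∀ γ ∈ Γ, (∀ h ∈ fourC, Commute γ (shiftU h)) → γ ^ 3 = 1 := fun γ hγ h =>
    residual_four fourC (sr 0) fourC_cov γ (hΓord γ hγ) h
  have hgrp : IsPGroup 2 ↥(shiftU.range) := by
    haveI := Fact.mk Nat.prime_two
    refine IsPGroup.of_surjective ?_ shiftU.rangeRestrict (MonoidHom.rangeRestrict_surjective _)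
    exact IsPGroup.of_card (n := 3) (by rw [Nat.card_eq_fintype_card, DihedralGroup.card]; norm_num)
  -- an invariant p-subgroup is trivial if two fixed-point-free involutions have a product fixing few
  have key : ∀ {p : ℕ}, p.Prime → p ≠ 3 → ∀ (K : Subgroup Vg), K ≤ Γ → IsPGroup p K →
      ∀ (a b : DihedralGroup 4), a * a = 1 → b * b = 1 →
      (∀ g, ∀ k ∈ K, shiftU g * k * (shiftU g)⁻¹ ∈ K) →
      (∀ k ∈ K, Commute k (shiftU a) → k ^ 3 = 1) → (∀ k ∈ K, Commute k (shiftU b) → k ^ 3 = 1) →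
      (∀ k ∈ K, Commute k (shiftU (a * b)) → k ^ 3 = 1) → K = ⊥ := by
    intro p hp hp3 K hK hKp a b ha hb hinv hfa hfb hfab
    have hone : ∀ k ∈ K, k ^ 3 = 1 → k = 1 := fun k hk h3 => by
      obtain ⟨j, hj⟩ := hKp ⟨k, hk⟩
      exact conj_zero_of_three hp hp3 (congrArg Subtype.val hj) h3
    have hI : ∀ c : DihedralGroup 4, c * c = 1 → (∀ k ∈ K, Commute k (shiftU c) → k ^ 3 = 1) →
        ∀ k ∈ K, shiftU c * k * (shiftU c)⁻¹ = k⁻¹ := fun c hc hfc =>
      LargeExtra.Basic.inverts_of_fixedPointFree (by rw [← map_mul, hc, map_one]) K (hinv c)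
        fun k hk he => hone k hk (hfc k hk (mul_inv_eq_iff_eq_mul.1 he).symm)
    rw [eq_bot_iff]
    intro k hk
    refine Subgroup.mem_bot.2 (hone k hk (hfab k hk ?_))
    have e : shiftU (a * b) * k * (shiftU (a * b))⁻¹ = k := by
      rw [map_mul, show shiftU a * shiftU b * k * (shiftU a * shiftU b)⁻¹ =
        shiftU a * (shiftU b * k * (shiftU b)⁻¹) * (shiftU a)⁻¹ by group, hI b hb hfb k hk,
        hI a ha hfa _ (K.inv_mem hk), inv_inv]
    exact (mul_inv_eq_iff_eq_mul.1 e).symm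
  have hsylow : ∀ {p : ℕ} [Fact p.Prime] (C : Subgroup Vg), C ≤ Γ →
      (∀ g, ∀ k ∈ C, shiftU g * k * (shiftU g)⁻¹ ∈ C) →
      (∀ K : Subgroup Vg, K ≤ C → IsPGroup p K →
        (∀ g, ∀ k ∈ K, shiftU g * k * (shiftU g)⁻¹ ∈ K) → K = ⊥) → ¬ p ∣ Nat.card C := by
    intro p _ C hC hinv hK hdvd
    haveI : Group.IsNilpotent ↥(shiftU.range) := hgrp.isNilpotent
    have hcop : (Nat.card ↥(shiftU.range)).Coprime (Nat.card C) := by
      obtain ⟨n, hn⟩ := IsPGroup.iff_card.1 hgrp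
      rw [hn]
      exact Nat.Coprime.pow_left n (Nat.coprime_two_left.2 (hodd.of_dvd_nat (Subgroup.card_dvd_of_le hC)))
    obtain ⟨P, hP⟩ := Coprime.exists_invariant_sylow (hshle C hinv) hcop (Or.inl inferInstance) p
    have hbot := hK ((P : Subgroup C).map C.subtype) (Subgroup.map_subtype_le _) (P.2.map _)
      fun g k hk => (Subgroup.mem_normalizer_iff.1 (hP ⟨g, rfl⟩) k).1 hk
    rw [Subgroup.map_eq_bot_iff_of_injective _ C.subtype_injective] at hbot
    exact P.ne_bot_of_dvd_card hdvd hbot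
  have hthree : ∀ (C : Subgroup Vg), C ≤ Γ →
      (∀ {p : ℕ} [Fact p.Prime], p ≠ 3 → ¬ p ∣ Nat.card C) → IsPGroup 3 C := fun C hC h => by
    refine IsPGroup.of_card (n := (Nat.card C).primeFactorsList.length)
      (Nat.eq_prime_pow_of_unique_prime_dvd Nat.card_pos.ne' fun {q} hq hd => ?_)
    by_contra hq3
    haveI := Fact.mk hq
    exact h hq3 hd
  -- centralizers of the three involutions
  let Cz : DihedralGroup 4 → Subgroup Vg := fun i => Γ ⊓ Subgroup.centralizer {shiftU i}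
  have hmemCz : ∀ {i k}, k ∈ Cz i ↔ k ∈ Γ ∧ Commute k (shiftU i) := fun {i k} => by
    show k ∈ Γ ∧ k ∈ Subgroup.centralizer {shiftU i} ↔ _
    rw [Subgroup.mem_centralizer_singleton_iff]
    exact ⟨fun h => ⟨h.1, h.2⟩, fun h => ⟨h.1, h.2⟩⟩
  have hcomb : ∀ (k : Vg) (a b : DihedralGroup 4), Commute k (shiftU a) → Commute k (shiftU b) →
      Commute k (shiftU (a * b)) := fun k a b ha hb => by rw [map_mul]; exact ha.mul_right hb
  have hz : IsPGroup 3 (Cz (r 2)) := by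
    refine hthree _ inf_le_left fun {p} _ hp3 => hsylow _ inf_le_left ?_ fun K hK hKp hKinv => ?_
    · intro g k hk
      refine hmemCz.2 ⟨hnormsh g k (hmemCz.1 hk).1, ?_⟩
      have hg : g * r 2 = r 2 * g := by revert g; decide
      have h1 : Commute (shiftU g) (shiftU (r 2)) := (congrArg shiftU hg ▸ (map_mul shiftU g (r 2)).symm).trans
        (map_mul shiftU (r 2) g)
      exact ((h1.mul_left (hmemCz.1 hk).2).mul_left h1.inv_left)
    · refine key Fact.out hp3 K (hK.trans inf_le_left) hKp (sr 0) (sr 1) (by decide) (by decide) hKinv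
        ?_ ?_ ?_
      · intro k hk hc
        refine hA4 k (hK hk).1 fun h hh => ?_
        have h2 := (hmemCz.1 (hK hk)).2
        rcases hh with rfl | rfl | rfl | rfl
        · rw [map_one]; exact Commute.one_right k
        · exact h2
        · exact hc
        · exact (show r (2 : ZMod 4) * sr 0 = sr 2 by decide) ▸ hcomb k _ _ h2 hc
      · intro k hk hc
        refine hB4 k (hK hk).1 fun h hh => ?_
        have h2 := (hmemCz.1 (hK hk)).2
        rcases hh with rfl | rfl | rfl | rfl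
        · rw [map_one]; exact Commute.one_right k
        · exact h2
        · exact hc
        · exact (show r (2 : ZMod 4) * sr 1 = sr 3 by decide) ▸ hcomb k _ _ h2 hc
      · intro k hk hc
        rw [show sr (0 : ZMod 4) * sr 1 = r 1 by decide] at hc
        refine hC4 k (hK hk).1 fun h hh => ?_
        rcases hh with rfl | rfl | rfl | rfl
        · rw [map_one]; exact Commute.one_right k
        · exact hc
        · exact (show r (1 : ZMod 4) * r 1 = r 2 by decide) ▸ hcomb k _ _ hc hc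
        · exact (show r (1 : ZMod 4) * r 1 * r 1 = r 3 by decide) ▸ hcomb k _ _ (hcomb k _ _ hc hc) hc
  have hx : ∀ x : DihedralGroup 4, x * x = 1 → x ≠ 1 → IsPGroup 3 (Cz x) := by
    intro x hxx hx1
    obtain ⟨sz, hsz, hgz⟩ := hsh (r 2)
    obtain ⟨sx, hsx, hgx⟩ := hsh x
    have hinvol : ∀ (s : ↥S) (i : DihedralGroup 4), gS s = i → i * i = 1 → i ≠ 1 →
        θ s * θ s = 1 ∧ θ s ≠ 1 := fun s i hs hi hi1 => by
      refine ⟨?_, fun h => hi1 (hs ▸ (hθS s).1 h)⟩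
      rw [← map_mul, ← Subgroup.coe_mul, hθS, map_mul, hs, hi]
    obtain ⟨hz2, hz1⟩ := hinvol sz _ hgz (by decide) (by decide)
    obtain ⟨hx2, hx1'⟩ := hinvol sx _ hgx hxx hx1
    obtain ⟨p, hp⟩ := invol_conj hz2 hz1 hx2 hx1'
    obtain ⟨n, rfl⟩ := hθ p
    set u := ρ n * shiftU (r 2) * (ρ n)⁻¹ with hu
    set sX := shiftU x with hsX
    have hsX2 : sX * sX = 1 := by rw [hsX, ← map_mul, hxx, map_one]
    have hsXi : sX⁻¹ = sX := inv_eq_of_mul_eq_one_right hsX2
    have he : u * sX ∈ Γ := by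
      refine ⟨n * sz * n⁻¹ * (sx : N)⁻¹, ?_, ?_⟩
      · rw [SetLike.mem_coe, MonoidHom.mem_ker, map_mul, map_mul, map_mul, map_inv, map_inv, hp, mul_inv_cancel]
      · rw [map_mul, map_mul, map_mul, map_inv, map_inv, hsz, hsx, hsXi]
    obtain ⟨k, hk⟩ := hΓord _ he
    set e := u * sX with hedef
    have hu2 : u * u = 1 := by
      rw [hu, show ρ n * shiftU (r 2) * (ρ n)⁻¹ * (ρ n * shiftU (r 2) * (ρ n)⁻¹) =
        ρ n * (shiftU (r 2) * shiftU (r 2)) * (ρ n)⁻¹ by group, ← map_mul,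
        show r (2 : ZMod 4) * r 2 = 1 by decide, map_one, mul_one, mul_inv_cancel]
    have hui : u⁻¹ = u := inv_eq_of_mul_eq_one_right hu2
    have hxe : sX * e * sX⁻¹ = e⁻¹ := by
      rw [hedef, mul_inv_rev, hui, hsXi, mul_assoc, mul_assoc u, hsX2, mul_one]
    set f := e ^ (k + 1) with hfdef
    have hff : f * f = e := by
      rw [hfdef, ← pow_add, show k + 1 + (k + 1) = 2 * k + 1 + 1 by ring, pow_succ, ← hk,
        pow_orderOf_eq_one, one_mul]
    have hxf : sX * f = f⁻¹ * sX := by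
      rw [← mul_inv_eq_iff_eq_mul, hfdef, ← inv_pow, ← hxe, conj_pow]
    have hfu : f⁻¹ * u * f = sX := by
      rw [show u = e * sX by rw [hedef, mul_assoc, hsX2, mul_one], mul_assoc, mul_assoc e, hxf,
        ← hff]
      group
    set m := f⁻¹ * ρ n with hmdef
    have hm : m * shiftU (r 2) * m⁻¹ = sX := by
      rw [← hfu, hu, hmdef]
      group
    have hfΓ : f ∈ Γ := Γ.pow_mem he _
    intro c
    obtain ⟨hcΓ, hcc⟩ := hmemCz.1 c.2
    have hc' : m⁻¹ * (c : Vg) * m ∈ Cz (r 2) := by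
      refine hmemCz.2 ⟨?_, ?_⟩
      · have h1 := hnorm n⁻¹ _ (Γ.mul_mem (Γ.mul_mem hfΓ hcΓ) (Γ.inv_mem hfΓ))
        rw [map_inv, inv_inv] at h1
        rwa [hmdef, show (f⁻¹ * ρ n)⁻¹ * (c : Vg) * (f⁻¹ * ρ n) =
          (ρ n)⁻¹ * (f * (c : Vg) * f⁻¹) * ρ n by group]
      · have h1 : Commute (c : Vg) (m * shiftU (r 2) * m⁻¹) := by rw [hm]; exact hcc
        have h2 := (Commute.conj_iff m⁻¹).2 h1
        rw [inv_inv, show m⁻¹ * (m * shiftU (r 2) * m⁻¹) * m = shiftU (r 2) by group] at h2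
        exact h2
    obtain ⟨j, hj⟩ := hz ⟨_, hc'⟩
    refine ⟨j, Subtype.ext ?_⟩
    have h1 : (m⁻¹ * (c : Vg) * m) ^ 3 ^ j = 1 := congrArg Subtype.val hj
    have h2 : (m⁻¹ * (c : Vg) * (m⁻¹)⁻¹) ^ 3 ^ j = 1 := by rwa [inv_inv]
    rw [conj_pow, inv_inv] at h2
    have : (c : Vg) ^ 3 ^ j = m * (m⁻¹ * (c : Vg) ^ 3 ^ j * m) * m⁻¹ := by group
    show (c : Vg) ^ 3 ^ j = 1
    rw [this, h2, mul_one, mul_inv_cancel]
  have hΓ3 : IsPGroup 3 Γ := by
    refine hthree Γ le_rfl fun {p} _ hp3 => hsylow Γ le_rfl hnormsh fun K hK hKp hKinv => ?_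
    have hf : ∀ x : DihedralGroup 4, x * x = 1 → x ≠ 1 →
        ∀ k ∈ K, Commute k (shiftU x) → k ^ 3 = 1 := by
      intro x hxx hx1 k hk hc
      obtain ⟨j, hj⟩ := hx x hxx hx1 ⟨k, hmemCz.2 ⟨hK hk, hc⟩⟩
      obtain ⟨i, hi⟩ := hKp ⟨k, hk⟩
      have hk1 : k = 1 := by
        rw [← orderOf_eq_one_iff]
        refine Nat.dvd_one.1 ?_
        have hc' : Nat.Coprime (p ^ i) (3 ^ j) :=
          Nat.Coprime.pow i j ((Nat.coprime_primes Fact.out Nat.prime_three).2 hp3)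
        rw [← hc'.gcd_eq_one]
        exact Nat.dvd_gcd (orderOf_dvd_of_pow_eq_one (congrArg Subtype.val hi))
          (orderOf_dvd_of_pow_eq_one (congrArg Subtype.val hj))
      rw [hk1, one_pow]
    exact key Fact.out hp3 K hK hKp (r 2) (sr 0) (by decide) (by decide) hKinv
      (hf _ (by decide) (by decide)) (hf _ (by decide) (by decide)) (hf _ (by decide) (by decide))
  -- an element of order seven
  haveI := Fact.mk (by norm_num : Nat.Prime 7)
  haveI := Fact.mk Nat.prime_three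
  obtain ⟨w, hw⟩ := exists_prime_orderOf_dvd_card' 7 (G := G32) (by rw [card_G32]; norm_num)
  obtain ⟨h₀, hh₀⟩ := hθ w
  obtain ⟨b, m, hm, hbm⟩ := Nat.exists_eq_pow_mul_and_not_dvd
    (orderOf_pos (ρ h₀)).ne' 7 (by norm_num)
  set h₁ := h₀ ^ m with hh₁
  have hθh₁ : θ h₁ ≠ 1 := by
    rw [hh₁, map_pow, hh₀]
    intro h
    exact hm (hw ▸ orderOf_dvd_of_pow_eq_one h)
  have hρh₁ : ρ h₁ ^ 7 ^ b = 1 := by
    rw [hh₁, map_pow, ← pow_mul, mul_comm, ← hbm, pow_orderOf_eq_one]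
  have hh7 : IsPGroup 7 ↥(Subgroup.zpowers (ρ h₁)) := by
    obtain ⟨i, -, hi⟩ := (Nat.dvd_prime_pow Fact.out).1 (orderOf_dvd_of_pow_eq_one hρh₁)
    exact IsPGroup.of_card (n := i) (by rw [Nat.card_zpowers, hi])
  have hzn : ∀ h : ↥(Subgroup.zpowers (ρ h₁)), ∀ γ ∈ Γ, (h : Vg) * γ * (h : Vg)⁻¹ ∈ Γ := by
    rintro ⟨_, i, rfl⟩ γ hγ
    show ρ h₁ ^ i * γ * (ρ h₁ ^ i)⁻¹ ∈ Γ
    rw [← map_zpow]
    exact hnorm _ γ hγ
  letI : MulAction ↥(Subgroup.zpowers (ρ h₁)) ↥Γ :=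
    { smul := fun h γ => ⟨(h : Vg) * γ * (h : Vg)⁻¹, hzn h γ γ.2⟩
      one_smul := fun γ => Subtype.ext (by show (1 : Vg) * γ * 1⁻¹ = γ; simp)
      mul_smul := fun a b γ => Subtype.ext (by
        show ((a : Vg) * b) * γ * ((a : Vg) * b)⁻¹ = a * (b * γ * (b : Vg)⁻¹) * (a : Vg)⁻¹
        group) }
  let F : Subgroup Vg := Γ ⊓ Subgroup.centralizer {ρ h₁}
  have hFfix : Nat.card (MulAction.fixedPoints ↥(Subgroup.zpowers (ρ h₁)) ↥Γ) = Nat.card F := by
    refine Nat.card_congr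
      { toFun := fun γ => ⟨γ.1.1, γ.1.2, ?_⟩
        invFun := fun γ => ⟨⟨γ.1, γ.2.1⟩, ?_⟩
        left_inv := fun γ => rfl
        right_inv := fun γ => rfl }
    · show (γ.1 : Vg) ∈ Subgroup.centralizer {ρ h₁}
      rw [Subgroup.mem_centralizer_singleton_iff]
      have h := congrArg Subtype.val (γ.2 ⟨ρ h₁, Subgroup.mem_zpowers _⟩)
      exact (mul_inv_eq_iff_eq_mul.1 h).symm
    · intro h
      obtain ⟨i, hi⟩ := h.2
      refine Subtype.ext ?_
      show (h : Vg) * (γ.1 : Vg) * (h : Vg)⁻¹ = γ.1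
      have hc : Commute (γ.1 : Vg) (ρ h₁) := Subgroup.mem_centralizer_singleton_iff.1 γ.2.2
      have : Commute (γ.1 : Vg) (h : Vg) := hi ▸ hc.zpow_right i
      rw [← this.eq, mul_inv_cancel_right]
  have hFΓ : F = Γ := by
    refine Subgroup.eq_of_le_of_card_ge inf_le_left ?_
    obtain ⟨a, ha⟩ := IsPGroup.iff_card.1 hΓ3
    obtain ⟨c, -, hc⟩ := (Nat.dvd_prime_pow Nat.prime_three).1
      (ha ▸ Subgroup.card_dvd_of_le (inf_le_left : F ≤ Γ))
    have ha5 : a ≤ 5 := by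
      by_contra hlt
      exact card_Vg ((pow_dvd_pow 3 (by omega : 6 ≤ a)).trans (ha ▸ Subgroup.card_subgroup_dvd_card Γ))
    have hc5 : c ≤ 5 := by
      by_contra hlt
      exact card_Vg ((pow_dvd_pow 3 (by omega : 6 ≤ c)).trans (hc ▸ Subgroup.card_subgroup_dvd_card F))
    have hmod := hh7.card_modEq_card_fixedPoints (α := ↥Γ)
    rw [hFfix, ha, hc] at hmod
    have hac : a = c := by
      have hkey : ∀ i j : Fin 6, 3 ^ (i : ℕ) % 7 = 3 ^ (j : ℕ) % 7 → i = j := by decide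
      exact congrArg Fin.val (hkey ⟨a, by omega⟩ ⟨c, by omega⟩ hmod)
    rw [ha, hc, hac]
  -- the translations centralize Γ
  let K₀ : Subgroup N := (Subgroup.centralizer (Γ : Set Vg)).comap ρ
  haveI hK₀ : K₀.Normal := ⟨fun k hk n => by
    show ρ (n * k * n⁻¹) ∈ Subgroup.centralizer (Γ : Set Vg)
    rw [Subgroup.mem_centralizer_iff]
    intro γ hγ
    have h := Subgroup.mem_centralizer_iff.1 hk _ (hnorm n⁻¹ γ hγ)
    rw [map_inv, inv_inv] at h
    rw [map_mul, map_mul, map_inv]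
    calc γ * (ρ n * ρ k * (ρ n)⁻¹) = ρ n * ((ρ n)⁻¹ * γ * ρ n * ρ k) * (ρ n)⁻¹ := by group
      _ = ρ n * (ρ k * ((ρ n)⁻¹ * γ * ρ n)) * (ρ n)⁻¹ := by rw [h]
      _ = ρ n * ρ k * (ρ n)⁻¹ * γ := by group⟩
  have hh₁K : h₁ ∈ K₀ := by
    show ρ h₁ ∈ Subgroup.centralizer (Γ : Set Vg)
    rw [Subgroup.mem_centralizer_iff]
    intro γ hγ
    rw [← hFΓ] at hγ
    exact Subgroup.mem_centralizer_singleton_iff.1 hγ.2
  haveI := simple_G32
  have htop : K₀.map θ = ⊤ := ((hK₀.map θ hθ).eq_bot_or_eq_top).resolve_left fun h =>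
    hθh₁ (by
      have := Subgroup.mem_map_of_mem θ hh₁K
      rwa [h, Subgroup.mem_bot] at this)
  have hcS : ∀ g, ∀ γ ∈ Γ, Commute γ (shiftU g) := by
    intro g
    obtain ⟨s, hs, -⟩ := hsh g
    obtain ⟨k, hk, hks⟩ : θ s ∈ K₀.map θ := htop ▸ Subgroup.mem_top _
    have hδ : (ρ k)⁻¹ * shiftU g ∈ Γ :=
      ⟨k⁻¹ * s, by rw [SetLike.mem_coe, MonoidHom.mem_ker, map_mul, map_inv, hks, inv_mul_cancel], by
        rw [map_mul, map_inv, hs]⟩
    set δ := (ρ k)⁻¹ * shiftU g with hδdef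
    have hk' : ∀ γ ∈ Γ, Commute (ρ k) γ := fun γ hγ =>
      (Subgroup.mem_centralizer_iff.1 hk γ hγ).symm
    have hconj : ∀ γ ∈ Γ, shiftU g * γ * (shiftU g)⁻¹ = δ * γ * δ⁻¹ := fun γ hγ => by
      rw [show shiftU g = ρ k * δ by rw [hδdef, mul_inv_cancel_left]]
      calc ρ k * δ * γ * (ρ k * δ)⁻¹ = ρ k * (δ * γ * δ⁻¹) * (ρ k)⁻¹ := by group
        _ = δ * γ * δ⁻¹ := by
          rw [(hk' _ (Γ.mul_mem (Γ.mul_mem hδ hγ) (Γ.inv_mem hδ))).eq, mul_inv_cancel_right]
    have hit : ∀ i : ℕ, ∀ γ ∈ Γ, shiftU g ^ i * γ * (shiftU g ^ i)⁻¹ = δ ^ i * γ * (δ ^ i)⁻¹ := by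
      intro i
      induction i with
      | zero => simp
      | succ i ih =>
        intro γ hγ
        have hmem : δ ^ i * γ * (δ ^ i)⁻¹ ∈ Γ :=
          Γ.mul_mem (Γ.mul_mem (Γ.pow_mem hδ i) hγ) (Γ.inv_mem (Γ.pow_mem hδ i))
        calc shiftU g ^ (i + 1) * γ * (shiftU g ^ (i + 1))⁻¹
            = shiftU g * (shiftU g ^ i * γ * (shiftU g ^ i)⁻¹) * (shiftU g)⁻¹ := by
              rw [pow_succ']; group
          _ = δ * (δ ^ i * γ * (δ ^ i)⁻¹) * δ⁻¹ := by rw [ih γ hγ, hconj _ hmem]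
          _ = δ ^ (i + 1) * γ * (δ ^ (i + 1))⁻¹ := by rw [pow_succ']; group
    have h4 : shiftU g ^ 4 = 1 := by
      rw [← map_pow, dihedral_pow_four g, map_one]
    obtain ⟨i, hi⟩ := hΓord δ hδ
    have hδ4 : ∀ γ ∈ Γ, Commute (δ ^ 4) γ := fun γ hγ => by
      have h := hit 4 γ hγ
      rw [h4, one_mul, inv_one, mul_one] at h
      exact mul_inv_eq_iff_eq_mul.1 h.symm
    intro γ hγ
    have hδc : Commute δ γ := by
      obtain ⟨j, hj⟩ := exists_pow_eq_self_of_coprime (x := δ) (n := 4) (Nat.Coprime.pow_left 2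
        (Nat.coprime_two_left.2 ⟨i, hi⟩))
      rw [← hj]
      exact (hδ4 γ hγ).pow_left j
    have h := hconj γ hγ
    rw [hδc.eq, mul_inv_cancel_right] at h
    exact (mul_inv_eq_iff_eq_mul.1 h).symm
  intro a ha
  exact residual_top _ (hΓord _ ⟨a, ha, rfl⟩) fun g => hcS g _ ⟨a, ha, rfl⟩

end Centralize

end Cfsg.Agent.Lib.Inv59.RudT
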