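import Mathlib
import Cfsg.Agent.Lib.Inv59.RudT.Main
import Cfsg.Agent.Lib.Inv59.RudT.OrbitSum

/-!
# No homomorphism of the normalizer of `W'` to the group of order two is nontrivial on `T`
-/

set_option autoImplicit false
set_option linter.unusedSectionVars false
set_option linter.style.haveILetI false

namespace Cfsg.Agent.Lib.Inv59.RudT

universe u v

section Generic

variable {T : Type u} [Group T] [Finite T] {W : Subgroup T} {Q : Type v} [MulAction T Q] [Fintype Q]
  {c : T → Q → ZMod 2} {q : Q}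

local notation "Zc" => Subgroup.upperCentralSeries T

namespace Hyp

variable (H : Hyp T W) (hc : ∀ s t q, c (s * t) q = c s (t • q) + c t q)
include H hc

theorem pair_eq {K : Subgroup T} {y v : T} (hy : y ∈ K) (hv : v ∈ K) :
    osum c K q y + osum c K q v = osum c K q (y⁻¹ * v) := by
  rw [osum_mul hc q _ hv, osum_inv hc q hy]

/-- A vanishing on `W ∩ K` propagates. -/
theorem step_c {K : Subgroup T} (hst : ∀ h : T, h • q = q → h ∈ K) (hne : ¬ W ≤ K)
    (h0 : ∀ y ∈ W, y ∈ K → osum c K q y = 0) : ∀ y, osum c (⊤ : Subgroup T) q y = 0 := by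
  haveI := H.W_normal
  obtain ⟨w, hwW, hwK, hw, h1, h2⟩ := exists_ext H.pg K W hne
  refine osum_top_zero H.pg hc (H := extBy K w h1 h2 hw) (fun h hh => Or.inl (hst h hh)) fun y hy => ?_
  refine osum_ext_zero hc h1 h2 hw hwK hst (Y := ⊤) (Subgroup.mem_top w) (fun v _ hv => ?_)
    (h0 _ (W.mul_mem hwW hwW) hw) y (Subgroup.mem_top y) hy
  rw [H.pair_eq hc hv (h2 v hv)]
  refine h0 _ ?_ (K.mul_mem (K.inv_mem hv) (h2 v hv))
  rw [show v⁻¹ * (w⁻¹ * v * w) = (v⁻¹ * w⁻¹ * v) * w by group]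
  exact W.mul_mem (by simpa using H.W_normal.conj_mem _ (W.inv_mem hwW) v⁻¹) hwW

/-- A vanishing on `Z₃ ∩ K` propagates to `W`. -/
theorem step_b {K : Subgroup T} (hst : ∀ h : T, h • q = q → h ∈ K) (hne : ¬ W ≤ K)
    (h0 : ∀ y ∈ Zc 3, y ∈ K → osum c K q y = 0) :
    ∃ K' : Subgroup T, K ≤ K' ∧ Nat.card ↥(W ⊓ K') ≤ 2 * Nat.card ↥(W ⊓ K) ∧
      ∀ y ∈ W, y ∈ K' → osum c K' q y = 0 := by
  haveI := H.W_normal
  obtain ⟨w, hwW, hwK, hw, h1, h2⟩ := exists_ext H.pg K W hne
  refine ⟨extBy K w h1 h2 hw, fun h hh => Or.inl hh, card_ext_le h1 h2 hw W hwW, ?_⟩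
  refine osum_ext_zero hc h1 h2 hw hwK hst hwW (fun v hvW hv => ?_) (h0 _ (H.sq_mem hwW) hw)
  rw [H.pair_eq hc hv (h2 v hv)]
  refine h0 _ ?_ (K.mul_mem (K.inv_mem hv) (h2 v hv))
  have := H.comm_mem (W.inv_mem hvW) (W.inv_mem hwW)
  simpa [commutatorElement_def, mul_assoc] using this

/-- A step inside `W` kills `Z₃`. -/
theorem step_a {K : Subgroup T} (hst : ∀ h : T, h • q = q → h ∈ K) (hne : ¬ W ≤ K) (hD : Zc 3 ≤ K) :
    ∃ K' : Subgroup T, K ≤ K' ∧ Nat.card ↥(W ⊓ K') ≤ 2 * Nat.card ↥(W ⊓ K) ∧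
      ∀ y ∈ Zc 3, osum c K' q y = 0 := by
  haveI := H.W_normal
  obtain ⟨w, hwW, hwK, hw, h1, h2⟩ := exists_ext H.pg K W hne
  refine ⟨extBy K w h1 h2 hw, fun h hh => Or.inl hh, card_ext_le h1 h2 hw W hwW, fun y hy => ?_⟩
  rw [osum_ext_mem hc h1 h2 hw hwK hst (hD hy), mul_assoc, H.comm_Z hy hwW, inv_mul_cancel_left,
    CharTwo.add_self_eq_zero]

theorem orbit_zero (hidx : 4 * Nat.card ↥(W ⊓ MulAction.stabilizer T q) ≤ Nat.card W) :
    ∀ y, osum c (⊤ : Subgroup T) q y = 0 := by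
  set R := MulAction.stabilizer T q with hRdef
  haveI := H.W_normal
  have hst : ∀ h : T, h • q = q → h ∈ R := fun h hh => hh
  have hR : ∀ h ∈ R, h • q = q := fun h hh => hh
  have hWpos : 0 < Nat.card W := Nat.card_pos
  have hnotle : ∀ K : Subgroup T, Nat.card ↥(W ⊓ K) < Nat.card W → ¬ W ≤ K := fun K h hle => by
    rw [inf_eq_left.2 hle] at h
    exact lt_irrefl _ h
  have hne : ¬ W ≤ R := hnotle R (by omega)
  by_cases hD : Zc 3 ≤ R
  · by_cases hcard : Nat.card W ≤ 8 * Nat.card ↥(W ⊓ R)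
    · have hadd : ∀ a : T, ∀ b ∈ R, c (a * b) q = c a q + c b q := fun a b hb => by
        rw [hc, hR b hb]
      have hc1 : c 1 q = 0 := by
        have h := hadd 1 1 R.one_mem
        rw [one_mul, CharTwo.add_self_eq_zero] at h
        exact h
      let Y : Subgroup T :=
        { carrier := {d | d ∈ Zc 3 ∧ c d q = 0}
          one_mem' := ⟨one_mem _, hc1⟩
          mul_mem' := fun {a b} ha hb => ⟨(Zc 3).mul_mem ha.1 hb.1, by
            rw [hadd a b (hD hb.1), ha.2, hb.2, add_zero]⟩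
          inv_mem' := fun {a} ha => ⟨(Zc 3).inv_mem ha.1, by
            have h := hadd a⁻¹ a (hD ha.1)
            rw [inv_mul_cancel, hc1, ha.2, add_zero] at h
            exact h.symm⟩ }
      have hψ : ∀ y ∈ Zc 3, y ∈ R → osum c R q y = 0 := by
        intro y hy hyR
        rw [osum_stab hc hR]
        by_contra hy'
        refine H.no_sub (A := W ⊓ R) (Y := Y) inf_le_left (fun x hx => ⟨H.Z3_le hx.1, hD hx.1⟩)
          (fun x hx => ⟨H.sq_mem hx.1, ?_⟩) ⟨H.Z3_le hy, hyR⟩ (fun h => hy' h.2) (H.phi_eq ▸ hy) hcard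
        rw [hadd x x hx.2, CharTwo.add_self_eq_zero]
      obtain ⟨K, hle, hcK, h0⟩ := H.step_b hc hst hne hψ
      exact H.step_c hc (fun h hh => hle (hst h hh)) (hnotle K (by omega)) h0
    · obtain ⟨K, hle, hcK, h0⟩ := H.step_a hc hst hne hD
      obtain ⟨K', hle', hcK', h0'⟩ := H.step_b hc (fun h hh => hle (hst h hh)) (hnotle K (by omega))
        (fun y hy _ => h0 y hy)
      exact H.step_c hc (fun h hh => hle' (hle (hst h hh))) (hnotle K' (by omega)) h0'
  · obtain ⟨w, hwD, hwK, hw, h1, h2⟩ := exists_ext H.pg R (Zc 3) hD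
    have hcK := card_ext_le h1 h2 hw W (H.Z3_le hwD)
    refine H.step_c hc (K := extBy R w h1 h2 hw) (fun h hh => Or.inl (hst h hh))
      (hnotle _ (by omega)) ?_
    refine osum_ext_zero hc h1 h2 hw hwK hst (H.Z3_le hwD) (fun v hvW hv => ?_) ?_
    · rw [mul_assoc, ← H.comm_Z hwD hvW, inv_mul_cancel_left, CharTwo.add_self_eq_zero]
    · rw [H.elem hwD]
      exact osum_one hc _ _

end Hyp

end Generic

section Transfer

variable {G : Type u} [Group G] [Finite G] (T : Sylow 2 G) {W : Subgroup ↥(T : Subgroup G)}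

/-- The image in `G` of the third term of the upper central series of `T`. -/
abbrev Dg : Subgroup G :=
  (Subgroup.upperCentralSeries ↥(T : Subgroup G) 3).map (T : Subgroup G).subtype

theorem T_le_Mg : (T : Subgroup G) ≤ Subgroup.normalizer (Dg T : Set G) := by
  intro t ht
  rw [Subgroup.mem_normalizer_iff]
  have key : ∀ s : ↥(T : Subgroup G), ∀ d ∈ Dg T, (s : G) * d * (s : G)⁻¹ ∈ Dg T := by
    rintro s _ ⟨d, hd, rfl⟩
    exact ⟨s * d * s⁻¹, (inferInstance : (Subgroup.upperCentralSeries ↥(T : Subgroup G) 3).Normal).conj_mem _ hd s, rfl⟩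
  intro d
  refine ⟨fun hd => key ⟨t, ht⟩ d hd, fun hd => ?_⟩
  have := key (⟨t, ht⟩⁻¹) _ hd
  simpa [mul_assoc] using this

variable (H : Hyp ↥(T : Subgroup G) W)
include H

/-- If `T` moves a coset of the normalizer of `W'` little, the coset is the trivial one. -/
theorem mem_of_small_orbit (g : G)
    (hsmall : Nat.card W < 4 * Nat.card ↥(W ⊓ MulAction.stabilizer ↥(T : Subgroup G)
      (QuotientGroup.mk g : G ⧸ Subgroup.normalizer (Dg T : Set G)))) :
    g ∈ Subgroup.normalizer (Dg T : Set G) := by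
  set M := Subgroup.normalizer (Dg T : Set G) with hM
  set R := MulAction.stabilizer ↥(T : Subgroup G) (QuotientGroup.mk g : G ⧸ M) with hR
  let ι := (T : Subgroup G).subtype
  have hι : Function.Injective ι := (T : Subgroup G).subtype_injective
  haveI := Fact.mk Nat.prime_two
  have hhalf : Nat.card W ≤ 2 * Nat.card ↥(W ⊓ R) := by
    obtain ⟨k, hk⟩ := IsPGroup.iff_card.1 (H.pg.to_subgroup (W ⊓ R))
    rw [hk, H.card_eq.1] at hsmall ⊢
    have hk10 : 10 ≤ k := by
      by_contra hlt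
      have := Nat.pow_le_pow_right (Nat.zero_lt_two) (by omega : k ≤ 9)
      norm_num at this hsmall
      omega
    have := Nat.pow_le_pow_right (Nat.zero_lt_two) hk10
    norm_num at this ⊢
    omega
  let S : Subgroup G := (W ⊓ R).map ι
  have hSM : S.map (MulAut.conj g⁻¹).toMonoidHom ≤ M := by
    rintro _ ⟨_, ⟨r, hr, rfl⟩, rfl⟩
    have h : (QuotientGroup.mk ((r : G) * g) : G ⧸ M) = QuotientGroup.mk g := hr.2
    have h' := QuotientGroup.eq.1 h.symm
    simpa [ι, mul_assoc] using h'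
  let S' : Subgroup ↥M := (S.map (MulAut.conj g⁻¹).toMonoidHom).subgroupOf M
  have hS' : IsPGroup 2 ↥S' := by
    refine IsPGroup.of_equiv ?_ (Subgroup.subgroupOfEquivOfLe hSM).symm
    exact ((H.pg.to_subgroup (W ⊓ R)).map ι).map _
  obtain ⟨P, hP⟩ := hS'.exists_le_sylow
  obtain ⟨m, hm⟩ := MulAction.exists_smul_eq ↥M (T.subtype (T_le_Mg T)) P
  let h : G := g * (m : G)
  have hconj : ∀ x ∈ S, h⁻¹ * x * h ∈ (T : Subgroup G) := by
    intro x hx
    have hxM : g⁻¹ * x * g ∈ M := hSM ⟨x, hx, by simp⟩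
    have hxP : (⟨g⁻¹ * x * g, hxM⟩ : ↥M) ∈ (P : Subgroup ↥M) := hP ⟨x, hx, by simp⟩
    rw [← hm, Sylow.coe_subgroup_smul, Subgroup.mem_pointwise_smul_iff_inv_smul_mem] at hxP
    simp only [← map_inv, MulAut.smul_def, MulAut.conj_apply, Sylow.coe_subtype,
      Subgroup.mem_subgroupOf, Subgroup.coe_mul, InvMemClass.coe_inv, inv_inv] at hxP
    simpa [h, mul_assoc] using hxP
  let ψ : ↥(T : Subgroup G) →* G := (MulAut.conj h).toMonoidHom.comp ι
  have hψ : Function.Injective ψ := (MulAut.conj h).injective.comp hι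
  have hψa : ∀ x, ψ x = h * (x : G) * h⁻¹ := fun x => rfl
  let P₀ := S.comap ψ
  have hP₀ : P₀.map ψ = S := by
    refine Subgroup.map_comap_eq_self fun x hx => ⟨⟨_, hconj x hx⟩, ?_⟩
    rw [hψa]
    group
  have hcP₀ : Nat.card P₀ = Nat.card ↥(W ⊓ R) := by
    rw [← Subgroup.card_map_of_injective hψ, hP₀, Subgroup.card_map_of_injective hι]
  have hinS : ∀ x : ↥(T : Subgroup G), (x : G) ∈ S → x ∈ W := by
    rintro x ⟨y, hy, hxy⟩
    rw [← hι hxy]
    exact hy.1
  let Y₀ := P₀ ⊓ W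
  let Y := (Y₀.map ψ).subgroupOf (T : Subgroup G)
  have hY₀S : Y₀.map ψ ≤ S := hP₀ ▸ Subgroup.map_mono inf_le_left
  have hST : S ≤ (T : Subgroup G) := fun x ⟨y, _, hy⟩ => hy ▸ y.2
  have hYW : Y ≤ W := fun x hx => hinS x (hY₀S hx)
  have hcY : Nat.card Y = Nat.card Y₀ := by
    rw [Nat.card_congr (Subgroup.subgroupOfEquivOfLe (hY₀S.trans hST)).toEquiv,
      Subgroup.card_map_of_injective hψ]
  obtain ⟨gg, -, hker, -⟩ := H.exists_g
  let gr : ↥P₀ →* DihedralGroup 4 := gg.comp P₀.subtype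
  have hgr : Nat.card P₀ = Nat.card Y₀ * Nat.card gr.range := by
    have hk : gr.ker = W.subgroupOf P₀ := by
      rw [← hker]; rfl
    have hk' : Nat.card gr.ker = Nat.card Y₀ := by
      rw [hk, ← Subgroup.card_map_of_injective P₀.subtype_injective, Subgroup.subgroupOf_map_subtype,
        inf_comm]
    rw [← Subgroup.index_ker gr, ← hk', Subgroup.card_mul_index]
  have h8 : Nat.card gr.range ≤ 8 := by
    refine (Subgroup.card_le_card_group _).trans ?_
    rw [Nat.card_eq_fintype_card, DihedralGroup.card]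
  have hDY : Subgroup.upperCentralSeries ↥(T : Subgroup G) 3 ≤ Y := by
    rw [← H.phi_eq]
    refine H.phi_le_of_card hYW ?_
    have := Nat.mul_le_mul_left (Nat.card Y₀) h8
    omega
  have hsqW : ∀ x ∈ P₀, x * x ∈ W := by
    intro x hx
    obtain ⟨r, hr, hrx⟩ : ψ x ∈ S := hx
    obtain ⟨y, hy, hy'⟩ := hDY (H.sq_mem hr.1)
    have e : ψ y = ψ (x * x) := by
      rw [map_mul, ← hrx]
      exact hy'
    rw [← hψ e]
    exact hy.2
  have h4 : Nat.card gr.range ≤ 4 := by
    have hdvd : Nat.card gr.range ∣ 8 := by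
      have := Subgroup.card_subgroup_dvd_card gr.range
      rwa [Nat.card_eq_fintype_card (α := DihedralGroup 4), DihedralGroup.card] at this
    have h6 : Nat.card gr.range ≤ 6 := by
      have hsub : (gr.range : Set (DihedralGroup 4)) ⊆
          ((Finset.univ.filter fun z : DihedralGroup 4 => z * z = 1) : Finset (DihedralGroup 4)) := by
        rintro _ ⟨x, rfl⟩
        have : (x : ↥(T : Subgroup G)) * x ∈ gg.ker := by
          rw [hker]; exact hsqW x x.2
        simp only [Finset.coe_filter, Finset.mem_univ, true_and, Set.mem_setOf_eq]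
        rw [← map_mul]
        exact this
      have := Set.ncard_le_ncard hsub (Set.toFinite _)
      rw [Set.ncard_coe_finset] at this
      refine le_trans ?_ (this.trans (le_of_eq ?_))
      · rw [← Nat.card_coe_set_eq]; rfl
      · decide
    have hb : ∀ a, a ∣ 8 → a ≤ 6 → a ≤ 4 := by
      intro a ha ha'
      interval_cases a <;> omega
    exact hb _ hdvd h6
  have hD'Y : Nat.card W ≤ 8 * Nat.card Y := by
    have := Nat.mul_le_mul_left (Nat.card Y₀) h4
    omega
  let Z := Subgroup.upperCentralSeries ↥(T : Subgroup G) 3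
  let D' := (Z.map ψ).subgroupOf (T : Subgroup G)
  have hD' : Z ≤ D' := by
    intro y hy
    by_contra hy'
    refine H.no_sub (A := Y) (Y := Z ⊓ D') hYW (fun x hx => hDY hx.1) (fun x hx => ⟨H.sq_mem (hYW hx), ?_⟩)
      (hDY hy) (fun hh => hy' hh.2) (H.phi_eq ▸ hy) hD'Y
    obtain ⟨x₀, hx₀, e⟩ := hx
    refine ⟨x₀ * x₀, H.sq_mem hx₀.2, ?_⟩
    show ψ (x₀ * x₀) = (x : G) * x
    rw [map_mul, e]
    rfl
  have hle : Dg T ≤ (Dg T).map (MulAut.conj h).toMonoidHom := by
    rintro _ ⟨y, hy, rfl⟩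
    obtain ⟨z, hz, e⟩ := hD' hy
    exact ⟨z, ⟨z, hz, rfl⟩, e⟩
  have heq : (Dg T).map (MulAut.conj h).toMonoidHom = Dg T :=
    (Subgroup.eq_of_le_of_card_ge hle
      (Subgroup.card_map_of_injective (f := (MulAut.conj h).toMonoidHom) (MulAut.conj h).injective).le).symm
  have hh : h ∈ M := by
    rw [hM, Subgroup.mem_normalizer_iff]
    intro x
    constructor
    · intro hx
      rw [← heq]
      exact ⟨x, hx, rfl⟩
    · intro hx
      rw [← heq] at hx
      obtain ⟨z, hz, e⟩ := hx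
      exact (MulAut.conj h).injective e ▸ hz
  have : h * (m : G)⁻¹ ∈ M := M.mul_mem hh (M.inv_mem m.2)
  simpa [h] using this

/-- Transfer: no homomorphism of the normalizer of `W'` to the group of order two is nonzero on `T`. -/
theorem transfer_vanish (h2 : ∀ K : Subgroup G, K.index ≠ 2)
    (f : ↥(Subgroup.normalizer (Dg T : Set G)) → ZMod 2) (hf : ∀ a b, f (a * b) = f a + f b)
    (m : ↥(Subgroup.normalizer (Dg T : Set G))) (hm : (m : G) ∈ (T : Subgroup G)) : f m = 0 := by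
  classical
  revert f m
  generalize hM : Subgroup.normalizer (Dg T : Set G) = M
  intro f hf m hm
  have hTM : (T : Subgroup G) ≤ M := hM ▸ T_le_Mg T
  have hmem : ∀ (x : G) (q : G ⧸ M), ((x • q).out)⁻¹ * x * q.out ∈ M := by
    intro x q
    rw [mul_assoc]
    refine QuotientGroup.eq.1 ?_
    rw [QuotientGroup.out_eq']
    conv_lhs => rw [← QuotientGroup.out_eq' q]
    rfl
  let cc : G → G ⧸ M → ZMod 2 := fun x q => f ⟨_, hmem x q⟩
  have hcc : ∀ s t q, cc (s * t) q = cc s (t • q) + cc t q := by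
    intro s t q
    show f _ = f _ + f _
    rw [← hf]
    congr 1
    apply Subtype.ext
    show ((s * t) • q).out⁻¹ * (s * t) * q.out = _ * _
    rw [mul_smul]
    group
  haveI := Fintype.ofFinite (G ⧸ M)
  let τ : G →* Multiplicative (ZMod 2) :=
    MonoidHom.mk' (fun x => Multiplicative.ofAdd (∑ q, cc x q)) fun s t => by
      rw [← ofAdd_add]
      congr 1
      simp only [hcc, Finset.sum_add_distrib]
      congr 1
      exact Equiv.sum_comp (MulAction.toPerm t) (cc s)
  have hτ : τ = 1 := by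
    by_contra hne
    apply h2 τ.ker
    rw [Subgroup.index_ker]
    have h2' : Nat.card (Multiplicative (ZMod 2)) = 2 := by
      rw [Nat.card_congr Multiplicative.toAdd, Nat.card_zmod]
    have hd := Subgroup.card_subgroup_dvd_card τ.range
    rw [h2'] at hd
    rcases (Nat.dvd_prime Nat.prime_two).1 hd with h | h
    · exact absurd (MonoidHom.range_eq_bot_iff.1 (Subgroup.card_eq_one.1 h)) hne
    · exact h
  let cT : ↥(T : Subgroup G) → G ⧸ M → ZMod 2 := fun t q => cc t q
  have hcT : ∀ s t q, cT (s * t) q = cT s (t • q) + cT t q := fun s t q => hcc s t q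
  let t : ↥(T : Subgroup G) := ⟨m, hm⟩
  let q₀ : G ⧸ M := QuotientGroup.mk 1
  have hfix : ∀ s : ↥(T : Subgroup G), s • q₀ = q₀ := fun s => by
    show (QuotientGroup.mk ((s : G) * 1) : G ⧸ M) = QuotientGroup.mk 1
    rw [QuotientGroup.eq]
    simpa using M.inv_mem (hTM s.2)
  have hfib : ∀ q : G ⧸ M, (∑ r ∈ Finset.univ.filter
      (fun r => (⟦r⟧ : Quotient (MulAction.orbitRel ↥(T : Subgroup G) (G ⧸ M))) = ⟦q⟧), cT t r) =
      osum cT (⊤ : Subgroup ↥(T : Subgroup G)) q t := by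
    intro q
    refine Finset.sum_congr ?_ fun _ _ => rfl
    ext r
    rw [Finset.mem_filter, mem_orb, Quotient.eq, MulAction.orbitRel_apply, MulAction.mem_orbit_iff]
    simp
  have hsum : ∑ q, cT t q = cT t q₀ := by
    rw [Finset.sum_partition (MulAction.orbitRel ↥(T : Subgroup G) (G ⧸ M)),
      Finset.sum_eq_single_of_mem ⟦q₀⟧ (Finset.mem_image_of_mem _ (Finset.mem_univ _)) ?_, hfib,
      osum_stab hcT (fun s _ => hfix s)]
    intro qb _ hqb
    induction qb using Quotient.inductionOn with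
    | _ q =>
    rw [hfib]
    refine H.orbit_zero hcT ?_ t
    obtain ⟨g, rfl⟩ := QuotientGroup.mk_surjective q
    by_contra hlt
    apply hqb
    have hg : g ∈ M := by
      subst hM
      exact mem_of_small_orbit T H g (not_le.1 hlt)
    rw [show (QuotientGroup.mk g : G ⧸ M) = q₀ from QuotientGroup.eq.2 (by simpa using M.inv_mem hg)]
  have hzero : cc (m : G) q₀ = 0 := by
    have h := congrArg Multiplicative.toAdd (DFunLike.congr_fun hτ (m : G))
    exact hsum.symm.trans h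
  obtain ⟨k, hk⟩ := QuotientGroup.mk_out_eq_mul M (1 : G)
  rw [one_mul] at hk
  have hval : (⟨_, hmem (m : G) q₀⟩ : ↥M) = k⁻¹ * m * k := by
    apply Subtype.ext
    show ((m : G) • q₀).out⁻¹ * (m : G) * q₀.out = _
    rw [show (m : G) • q₀ = q₀ from hfix t, hk]
    rfl
  have hf1 : f 1 = 0 := by
    have h := hf 1 1
    rw [one_mul, CharTwo.add_self_eq_zero] at h
    exact h
  have hinv : f k⁻¹ + f k = 0 := by rw [← hf, inv_mul_cancel, hf1]
  have h : f (k⁻¹ * m * k) = 0 := hval ▸ hzero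
  rw [hf, hf, add_right_comm, hinv, zero_add] at h
  exact h

end Transfer

end Cfsg.Agent.Lib.Inv59.RudT
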